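import Cfsg.Agent.OddOrder.BG16.Cores

/-!
# BG 16: Theorem I
-/

set_option autoImplicit false
set_option linter.style.haveILetI false
set_option linter.unusedSectionVars false

namespace CfsgLib.OddOrder.BG16

open Cfsg Subgroup CfsgLib

variable {G : Type*} [Group G] [Finite G] {M K U : Subgroup G} {p : ℕ}

theorem isOfTypeP_cases (hG : Cfsg.IsMinSimpleOddOrder G) (hM : IsCoatom M) (F : BG1215Facts G)
    (hKU : Cfsg.IsSigmaDecomposition M K U) (hK : K ≠ ⊥) :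
    Cfsg.IsOfTypeII M ∨ Cfsg.IsOfTypeIII M ∨ Cfsg.IsOfTypeIV M ∨ Cfsg.IsOfTypeV M := by
  by_cases hU : U = ⊥
  · by_cases he : Cfsg.fittingHallOf M = Cfsg.sigmaCore M
    · exact Or.inr (Or.inr (Or.inr ((typeV_iff hG hM F hKU).2 ⟨hK, hU, he⟩)))
    · exact Or.inr (((typeIII_IV_iff hG hM F hKU).2 ⟨hK, hU, he⟩).imp id Or.inl)
  · exact Or.inl ((typeII_iff hG hM F hKU).2 ⟨hK, hU⟩)

/-- Theorem I. -/
theorem theoremI (hG : Cfsg.IsMinSimpleOddOrder G) (F : BG1215Facts G) :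
    (∀ M : Subgroup G, IsCoatom M → IsTypeI M) ∨
      ∃ W₁ W₂ S T : Subgroup G, Cfsg.IsSelfNormalizingCyclic W₁ W₂ ∧ IsCoatom S ∧ IsCoatom T ∧
        Cfsg.IsComplIn ⁅S, S⁆ W₁ S ∧ Cfsg.IsComplIn ⁅T, T⁆ W₂ T ∧ S ⊓ T = W₁ ⊔ W₂ ∧
        (Cfsg.IsOfTypeII S ∨ Cfsg.IsOfTypeII T) ∧
        (Cfsg.IsOfTypeII S ∨ Cfsg.IsOfTypeIII S ∨ Cfsg.IsOfTypeIV S ∨ Cfsg.IsOfTypeV S) ∧
        (Cfsg.IsOfTypeII T ∨ Cfsg.IsOfTypeIII T ∨ Cfsg.IsOfTypeIV T ∨ Cfsg.IsOfTypeV T) ∧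
        ∀ M : Subgroup G, IsCoatom M → IsTypeI M ∨
          ∃ g : G, M = S.map (MulAut.conj g).toMonoidHom ∨ M = T.map (MulAut.conj g).toMonoidHom := by
  have hkI : ∀ M : Subgroup G, IsCoatom M → Cfsg.kappa M = ∅ → IsTypeI M := by
    intro M hM he
    obtain ⟨K, U, hKU⟩ := exists_decomp' hG hM F
    have hK := (K_eq_bot_iff hKU.hall).2 he
    exact (typeI_iff hG hM F hKU).2 ⟨hK, U_ne_bot_of_K_bot hG hM F hKU hK⟩
  by_cases h : ∃ M : Subgroup G, IsCoatom M ∧ (Cfsg.kappa M).Nonempty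
  swap
  · push Not at h
    exact Or.inl fun M hM => hkI M hM (h M hM)
  right
  obtain ⟨S, hS, hκ⟩ := h
  obtain ⟨K, U, hKU⟩ := exists_decomp' hG hS F
  have hK := K_ne_bot_of_nonempty hKU hκ
  obtain ⟨T, ⟨hT, hKT, hKTH⟩, -⟩ := F.starExists S hS K U hKU hK
  have hKsc := kstar_cyclic hG hS F hKU hK
  obtain ⟨U', hTU⟩ := exists_decomp hG hT F hKsc hKTH
  have hKs1 := kstar_ne_bot hG hS F hKU.hall
  obtain ⟨V, hP⟩ := exists_typePWith hG hS F hKU hK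
  obtain ⟨hIorU, hclasses⟩ := F.starClasses S hS K U hKU hK T hT hKT hKTH
  refine ⟨K, _, S, T, hP.selfNormalizing, hS, hT, hP.W₁_compl,
    isComplIn_derived hG hT F hTU hKs1, (F.starInter S hS K U hKU hK T hT hKT hKTH).1, ?_,
    isOfTypeP_cases hG hS F hKU hK, isOfTypeP_cases hG hT F hTU hKs1, fun M hM => ?_⟩
  · rcases hIorU with hU | hU'
    · exact Or.inl ((typeII_iff hG hS F hKU).2 ⟨hK, hU⟩)
    · exact Or.inr ((typeII_iff hG hT F hTU).2 ⟨hKs1, hU' U' hTU⟩)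
  · rcases Set.eq_empty_or_nonempty (Cfsg.kappa M) with he | hne
    · exact Or.inl (hkI M hM he)
    · exact Or.inr (hclasses M hM hne)

end CfsgLib.OddOrder.BG16
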