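import Cfsg.Agent.OddOrder.BG16.Cores
import Cfsg.Agent.OddOrder.BG11.Basic
import Cfsg.Agent.FrobComp.Complement
import Cfsg.Agent.FrobComp.Malnormal
import Cfsg.Agent.S0042
import Cfsg.Agent.NilpotentCover.Basic

/-!
# BG 16: the Sylow subgroups of `M_s`, the complement `U`, and Theorem II
-/

set_option autoImplicit false
set_option linter.style.haveILetI false
set_option linter.unusedSectionVars false

namespace CfsgLib.OddOrder.BG16

open Cfsg Subgroup CfsgLib
open CfsgLib.ConjFunctor (IsSylowIn)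

variable {G : Type*} [Group G] [Finite G] {M K U : Subgroup G} {p : ℕ}

/-- The kernel of a Frobenius group is `M_F`. -/
theorem frobeniusKernel_eq_fittingHall {L : Type*} [Group L] [Finite L] {E : Subgroup L}
    (hE : Cfsg.IsFrobeniusComplement E) :
    Cfsg.frobeniusKernel E = ((Cfsg.fittingHall L : Subgroup L) : Set L) := by
  obtain ⟨N, hNset, hNn, hNnil⟩ := Cfsg.Agent.S0042.result E hE
  obtain ⟨N', -, hc, hset⟩ := FrobComp.exists_kernel hE
  obtain rfl : N' = N := SetLike.coe_injective (hset.trans hNset.symm)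
  have hcard : Nat.card N' = E.index := hc.index_eq_card.symm
  have hcop : (Nat.card N').Coprime N'.index := by
    rw [hcard, hc.symm.index_eq_card]
    exact (FrobComp.coprime_card_index hE).symm
  have hle : N' ≤ Cfsg.fittingHall L := le_sSup ⟨hNn, hNnil, hcop⟩
  rw [← hNset]
  refine congrArg _ (le_antisymm hle fun x hx => ?_)
  by_contra hxN
  have hxk : x ∉ Cfsg.frobeniusKernel E := hNset ▸ hxN
  obtain ⟨hx1, g, h, hh, hh1, rfl⟩ := FrobComp.exists_conj_of_notMem_kernel hxk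
  haveI := Solvable.fittingSubgroup_isNilpotent (G := L)
  have hF : Group.IsNilpotent (Cfsg.fittingHall L) := by
    haveI : Group.IsNilpotent ((Cfsg.fittingHall L).subgroupOf (Cfsg.fittingSubgroup L)) :=
      inferInstance
    exact Group.nilpotent_of_mulEquiv
      (subgroupOfEquivOfLe (fittingHall_le_fittingSubgroup L))
  have hhF : h ∈ Cfsg.fittingHall L := by
    simpa [mul_assoc] using (inferInstance : (Cfsg.fittingHall L).Normal).conj_mem _ hx g⁻¹
  -- a nontrivial element of the kernel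
  obtain ⟨⟨y, hy⟩, hy1⟩ := ne_bot_iff_exists_ne_one.1 (fun hbot : N' = ⊥ => hE.2.1 (by
    rw [← index_eq_one, ← hcard, hbot, card_bot]))
  have hcop' : (orderOf y).Coprime (orderOf h) := by
    have h1 : (orderOf y) ∣ Nat.card N' := by
      rw [← Nat.card_zpowers]; exact card_dvd_of_le (zpowers_le.2 hy)
    have h2 : (orderOf h) ∣ Nat.card E := by
      rw [← Nat.card_zpowers]; exact card_dvd_of_le (zpowers_le.2 hh)
    exact Nat.Coprime.of_dvd h1 h2 (by rw [hcard]; exact (FrobComp.coprime_card_index hE).symm)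
  have hcomm : Commute y h :=
    NilpotentCover.commute_of_coprime_mem hF (hle hy) hhF hcop'
  have hhk : h ∉ Cfsg.frobeniusKernel E := fun hk =>
    hh1 (FrobComp.eq_one_of_mem_kernel_of_mem hk hh)
  exact hy1 (Subtype.ext (FrobComp.eq_one_of_commute hE (hNset ▸ hy) hhk hcomm))

/-- A subgroup with `p` dividing its order contributes a Sylow. -/
theorem sylow_map_isSylowIn_of_hall {π : Set ℕ} {N : Subgroup G} (hN : Cfsg.IsPiHallOf π N M)
    [Fact p.Prime] (hp : p ∈ π) {T : Subgroup G} (hT : IsSylowIn p T N) : IsSylowIn p T M := by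
  refine ⟨hT.le.trans hN.1, hT.isPGroup, fun hd => ?_⟩
  rw [← relIndex_mul_relIndex T N M hT.le hN.1] at hd
  exact ((Fact.out : p.Prime).dvd_mul.1 hd).elim hT.not_dvd (hN.2.2 p Fact.out hp)

section
variable (hG : Cfsg.IsMinSimpleOddOrder G) (hM : IsCoatom M) (F : BG1215Facts G)
include hG hM F

/-- The normalizers of the Sylow subgroups of `M_s`; `M_F` and `M_s` are Hall subgroups of `G`. -/
theorem typeCore_facts :
    (∀ (p : ℕ), p.Prime → ∀ (P : Sylow p ↥(Cfsg.typeCore M)),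
      (P : Subgroup ↥(Cfsg.typeCore M)) ≠ ⊥ →
        normalizer ((((P : Subgroup ↥(Cfsg.typeCore M)).map (Cfsg.typeCore M).subtype : Subgroup G)) :
          Set G) ≤ M) ∧
      (Nat.card (Cfsg.fittingHallOf M)).Coprime (Cfsg.fittingHallOf M).index ∧
      (Nat.card (Cfsg.typeCore M)).Coprime (Cfsg.typeCore M).index := by
  have hScop : (Nat.card (Cfsg.sigmaCore M)).Coprime (Cfsg.sigmaCore M).index :=
    Nat.coprime_of_dvd fun r hr h1 h2 =>
      (sigmaCore_isHall hG hM).2.2 r hr ((sigmaCore_isHall hG hM).2.1 r hr h1) h2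
  refine ⟨?_, ?_, ?_⟩
  · rw [typeCore_eq hG hM F]
    intro p hp P hP
    haveI := Fact.mk hp
    have hd : p ∣ Nat.card (Cfsg.sigmaCore M) := by
      obtain ⟨n, hn⟩ := IsPGroup.iff_card.1 P.isPGroup'
      have hn0 : n ≠ 0 := fun h0 => hP (card_eq_one.1 (by rw [hn, h0, pow_zero]))
      exact (hn ▸ dvd_pow_self p hn0).trans (card_subgroup_dvd_card _)
    have hps := isPiSubgroup_sigmaCore M p hp hd
    exact sigma_normalizer_le hps
      (sylow_map_isSylowIn_of_hall (sigmaCore_hall hG hM) hps (isSylowIn_map_subtype P))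
  · refine Nat.coprime_of_dvd fun r hr h1 h2 => ?_
    have hle := fittingHallOf_le_sigmaCore hG hM
    rw [← relIndex_mul_index hle] at h2
    rcases hr.dvd_mul.1 h2 with h | h
    · exact hr.not_dvd_one (coprime_relIndex_fittingHallOf M ▸ Nat.dvd_gcd h1
        (h.trans ⟨(Cfsg.sigmaCore M).relIndex M,
          (relIndex_mul_relIndex _ _ M hle (sigmaCore_le M)).symm⟩))
    · exact hr.not_dvd_one (hScop ▸ Nat.dvd_gcd (h1.trans (card_dvd_of_le hle)) h)
  · rw [typeCore_eq hG hM F]; exact hScop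

/-- The complements of `M_F` for types I and II come from the standard factorisation. -/
theorem exists_decomp_of_compl
    (hU : (IsTypeI M ∧ Cfsg.IsComplIn (Cfsg.fittingHallOf M) U M) ∨
      (Cfsg.IsOfTypeII M ∧ Cfsg.IsComplIn (Cfsg.fittingHallOf M) U ⁅M, M⁆)) :
    Cfsg.fittingHallOf M = Cfsg.sigmaCore M ∧ ∃ K, Cfsg.IsSigmaDecomposition M K U := by
  obtain ⟨K₀, U₀, hKU⟩ := exists_decomp' hG hM F
  rcases hU with ⟨hI, hc⟩ | ⟨hII, hc⟩
  · obtain ⟨hK, hU0⟩ := (typeI_iff hG hM F hKU).1 hI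
    have hF := fittingHall_eq_of_U hG hM F hKU hU0
    refine ⟨hF, K₀, hKU.cyclic, hKU.hall, ?_, hK ▸ bot_le⟩
    rw [hK, bot_sup_eq, ← hF]
    exact isComplIn_symm hc
  · obtain ⟨hK, hU0⟩ := (typeII_iff hG hM F hKU).1 hII
    have hF := fittingHall_eq_of_U hG hM F hKU hU0
    refine ⟨hF, ?_⟩
    rw [hF] at hc
    have hcard : Nat.card U = Nat.card U₀ := by
      have h := compl_card hc
      rw [card_derived hG hM F hKU hK, mul_comm] at h
      exact Nat.eq_of_mul_eq_mul_right Nat.card_pos h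
    obtain ⟨m, hm, hle⟩ := exists_conj_le_isPiHallOf (minSimple_coatom_solvable hG hM)
      (hc.2.1.trans (commutator_le_self M))
      (fun r hr hd => (decomp_hall_U hG hM hKU).2.1 r hr (hcard ▸ hd)) (decomp_hall_U hG hM hKU)
    have he : U.map (MulAut.conj m).toMonoidHom = U₀ :=
      eq_of_le_of_card_ge hle (by rw [card_map_conj, hcard])
    have h := decomp_map_conj hKU (inv_mem hm)
    rw [← he, map_conj_map_conj, inv_mul_cancel, map_conj_one] at h
    exact ⟨_, h⟩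

/-- The properties of `U` for types I and II. -/
theorem compl_facts
    (hU : (IsTypeI M ∧ Cfsg.IsComplIn (Cfsg.fittingHallOf M) U M) ∨
      (Cfsg.IsOfTypeII M ∧ Cfsg.IsComplIn (Cfsg.fittingHallOf M) U ⁅M, M⁆)) :
    (∀ (p : ℕ), p.Prime → ∀ P : Sylow p U,
      IsMulCommutative (P : Subgroup U) ∧ Cfsg.PRankLE p 2 (P : Subgroup U)) ∧
      (∀ X : Set G, X ⊆ (U : Set G) \ {1} → X.Nonempty →
        Cfsg.fittingHallOf M ⊓ centralizer X ≠ ⊥ →
        centralizer X ≤ M ∧ ∀ L : Subgroup G, IsCoatom L → centralizer X ≤ L → L = M) ∧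
      Cfsg.IsTISubset (supportA M \ Cfsg.typeA1 M) := by
  obtain ⟨hF, K, hKU⟩ := exists_decomp_of_compl hG hM F hU
  refine ⟨fun p hp P => sylow_U_abelian hG hM F hKU hp P, fun X hX hne hfix => ?_, ?_⟩
  · rw [← centralizer_closure X] at hfix ⊢
    refine centralizer_unique hG hM F hKU ((closure_le _).2 fun x hx => (hX hx).1) ?_ (hF ▸ hfix)
    obtain ⟨x, hx⟩ := hne
    exact fun h => (hX hx).2 (mem_bot.1 (h ▸ subset_closure hx))
  · have he : supportA M \ Cfsg.typeA1 M =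
        Cfsg.sigmaA M U \ (Cfsg.sigmaCore M : Set G) := by
      rw [typeA_eq hG hM F hKU, typeA1_eq hG hM F]
      ext a
      simp only [Set.mem_sdiff, Set.mem_singleton_iff, SetLike.mem_coe]
      constructor
      · rintro ⟨⟨h1, h2⟩, h3⟩
        exact ⟨h1, fun h => h3 ⟨h, h2⟩⟩
      · rintro ⟨h1, h2⟩
        exact ⟨⟨h1, fun h => h2 (h ▸ one_mem _)⟩, fun h => h2 h.1⟩
    rw [he]
    exact sigmaA_diff_TI hG hM F hKU

/-- The centralizer of an element of `Ẑ` is `K K*`. -/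
theorem zHat_centralizer_le (hKU : Cfsg.IsSigmaDecomposition M K U) (hK : K ≠ ⊥) {z : G}
    (hz : z ∈ zHat M K) : centralizer ({z} : Set G) ≤ M ∧
      ∃ r ∈ Cfsg.kappa M, r ∣ orderOf z := by
  obtain ⟨Ms, ⟨hMs, hKs, hKsH⟩, -⟩ := F.starExists M hM K U hKU hK
  obtain ⟨hzZ, hzn⟩ := hz
  set W := Cfsg.sigmaCore M ⊓ centralizer (K : Set G) with hW
  have hcomm : ∀ a ∈ K, ∀ b ∈ W, Commute a b := fun a ha b hb => mem_centralizer_iff.1 hb.2 a ha
  have hn : K ≤ normalizer (W : Set G) :=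
    le_trans (le_centralizer_iff.1 inf_le_right) (centralizer_le_normalizer _)
  rw [SetLike.mem_coe, sup_comm] at hzZ
  obtain ⟨w, hw, k, hk, rfl⟩ := Coprime.exists_mul_of_mem_sup hn hzZ
  have hk1 : k ≠ 1 := fun h => hzn (Or.inr (by rw [h, mul_one]; exact hw))
  have hw1 : w ≠ 1 := fun h => hzn (Or.inl (by rw [h, one_mul]; exact hk))
  refine ⟨?_, ?_⟩
  · rw [show w * k = k * w from (hcomm k hk w hw).eq.symm,
      ((F.typePCount M hM K U hKU hK Ms hMs hKs hKsH).2.2.1 k hk hk1 w hw hw1).2.2]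
    exact sup_le (decomp_K_le hKU) (inf_le_left.trans (sigmaCore_le M))
  · obtain ⟨r, y, hr, hy, hyr⟩ := exists_zpow_prime_order hk1
    have hrk : r ∈ Cfsg.kappa M := hKU.hall.2.1 r hr (by
      rw [← hyr, ← Nat.card_zpowers]; exact card_dvd_of_le (zpowers_le.2 (zpowers_le.2 hk hy)))
    refine ⟨r, hrk, ?_⟩
    have hcop : (orderOf w).Coprime (orderOf k) := Nat.coprime_of_dvd fun q hq h1 h2 => by
      refine (hKU.hall.2.1 q hq (h2.trans ?_)).2.2.1 (isPiSubgroup_sigmaCore M q hq (h1.trans ?_))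
      · rw [← Nat.card_zpowers]; exact card_dvd_of_le (zpowers_le.2 hk)
      · rw [← Nat.card_zpowers]; exact card_dvd_of_le (zpowers_le.2 hw.1)
    rw [(hcomm k hk w hw).symm.orderOf_mul_eq_mul_orderOf_of_coprime hcop]
    exact (hyr ▸ orderOf_dvd_of_mem_zpowers hy).mul_left _

/-- An element of `M` of the same order as one of `M_σ` lies in `M_σ`. -/
theorem mem_sigmaCore_of_orderOf {x y : G} (hx : x ∈ Cfsg.sigmaCore M) (hy : y ∈ M)
    (h : orderOf y ∣ orderOf x) : y ∈ Cfsg.sigmaCore M := by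
  have hS := sigmaCore_hall hG hM
  refine zpowers_le.1 (le_of_normal_hall hS.1 (le_normalizer_sigmaCore M)
    (coprime_relIndex_of_isPiHallOf hS) (zpowers_le.2 hy) fun r hr hd => ?_)
  rw [Nat.card_zpowers] at hd
  refine (hd.trans h).trans ?_
  rw [← Nat.card_zpowers]
  exact card_dvd_of_le (zpowers_le.2 hx)

/-- Elements of `U M_σ` have order prime to `κ(M)`. -/
theorem not_kappa_of_sigmaA (hKU : Cfsg.IsSigmaDecomposition M K U) {a : G}
    (ha : a ∈ Cfsg.sigmaA M U) {r : ℕ} (hr : r ∈ Cfsg.kappa M) : ¬ r ∣ orderOf a := by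
  intro hd
  have h2 : Nat.card ↥(U ⊔ Cfsg.sigmaCore M) ∣ Nat.card U * Nat.card (Cfsg.sigmaCore M) :=
    ⟨Nat.card ↥(U ⊓ Cfsg.sigmaCore M), (PLocal.card_sup_mul_card_inf
      ((decomp_U_le hKU).trans (le_normalizer_sigmaCore M))).symm⟩
  have h1 : r ∣ Nat.card U * Nat.card (Cfsg.sigmaCore M) := by
    refine (hd.trans ?_).trans h2
    rw [← Nat.card_zpowers]
    exact card_dvd_of_le (zpowers_le.2 ha.2)
  exact (hr.1.dvd_mul.1 h1).elim (fun h => (not_sigma_of_dvd_U hG hM hKU hr.1 h).2 hr)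
    fun h => hr.2.2.1 (isPiSubgroup_sigmaCore M r hr.1 h)

/-- The three parts of `A₀(M)`. -/
theorem typeA0_cases (hKU : Cfsg.IsSigmaDecomposition M K U) {X : Set G}
    (hX : X = supportA M ∨ X = supportA0 M) {x : G} (hx : x ∈ X) :
    (x ∈ Cfsg.sigmaCore M ∧ x ≠ 1) ∨ x ∈ Cfsg.sigmaA M U \ (Cfsg.sigmaCore M : Set G) ∨
      (K ≠ ⊥ ∧ ∃ m ∈ M, ∃ z ∈ zHat M K, x = m * z * m⁻¹) := by
  by_cases hA : x ∈ supportA M
  · rw [typeA_eq hG hM F hKU] at hA
    by_cases hS : x ∈ Cfsg.sigmaCore M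
    · exact Or.inl ⟨hS, hA.2⟩
    · exact Or.inr (Or.inl ⟨hA.1, hS⟩)
  · rcases hX with rfl | rfl
    · exact absurd hx hA
    · exact Or.inr (Or.inr (typeA0_diff hG hM F hKU hx hA))

theorem mem_M_of_cases (hKU : Cfsg.IsSigmaDecomposition M K U) {X : Set G}
    (hX : X = supportA M ∨ X = supportA0 M) {x : G} (hx : x ∈ X) : x ∈ M := by
  rcases typeA0_cases hG hM F hKU hX hx with h | h | ⟨-, m, hm, z, hz, rfl⟩
  · exact sigmaCore_le M h.1
  · exact h.1.1.1
  · exact mul_mem (mul_mem hm (sup_le (decomp_K_le hKU) (inf_le_left.trans (sigmaCore_le M)) hz.1))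
      (inv_mem hm)

theorem zHat_conj_le (hKU : Cfsg.IsSigmaDecomposition M K U) (hK : K ≠ ⊥) {m z : G} (hm : m ∈ M)
    (hz : z ∈ zHat M K) : centralizer ({m * z * m⁻¹} : Set G) ≤ M ∧
      ∃ r ∈ Cfsg.kappa M, r ∣ orderOf (m * z * m⁻¹) := by
  obtain ⟨h1, r, hr, hd⟩ := zHat_centralizer_le hG hM F hKU hK hz
  refine ⟨?_, r, hr, ?_⟩
  · have h := map_mono (f := (MulAut.conj m).toMonoidHom) h1
    rwa [map_conj_centralizer, Set.image_singleton, map_conj_eq_self_of_mem hm] at h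
  · rwa [show orderOf (m * z * m⁻¹) = orderOf z from MulEquiv.orderOf_eq (MulAut.conj m) z]

/-- Conjugate elements of the `M`-conjugates of `Ẑ` are conjugate by elements of `M` only. -/
theorem zHat_fusion (hKU : Cfsg.IsSigmaDecomposition M K U) (hK : K ≠ ⊥) {m z g : G} (hm : m ∈ M)
    (hz : z ∈ zHat M K)
    (hy : ∃ m' ∈ M, ∃ z' ∈ zHat M K, g * (m * z * m⁻¹) * g⁻¹ = m' * z' * m'⁻¹) : g ∈ M := by
  set B : Set G := {a : G | ∃ m ∈ M, ∃ z ∈ zHat M K, a = m * z * m⁻¹} with hB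
  obtain ⟨hset, hTI⟩ := F.zHatA0 M hM K U hKU hK
  have hTI' : Cfsg.IsTISubset B := by rw [← hset] at hTI; exact hTI
  have hBM : ∀ a ∈ B, a ∈ M := by
    rintro _ ⟨m, hm, z, hz, rfl⟩
    exact mul_mem (mul_mem hm (sup_le (decomp_K_le hKU) (inf_le_left.trans (sigmaCore_le M)) hz.1))
      (inv_mem hm)
  have hxB : m * z * m⁻¹ ∈ B := ⟨m, hm, z, hz, rfl⟩
  have hx1 : m * z * m⁻¹ ≠ 1 := fun h =>
    hz.2 (Or.inl (conj_eq_one_iff.1 h ▸ one_mem K))
  have hMN : M ≤ normalizer B := by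
    intro c hc
    refine mem_set_normalizer_iff.2 fun a => ⟨?_, ?_⟩
    · rintro ⟨m, hm, z, hz, rfl⟩
      exact ⟨c * m, mul_mem hc hm, z, hz, by group⟩
    · rintro ⟨m, hm, z, hz, he⟩
      refine ⟨c⁻¹ * m, mul_mem (inv_mem hc) hm, z, hz, ?_⟩
      calc a = c⁻¹ * (c * a * c⁻¹) * c := by group
        _ = c⁻¹ * (m * z * m⁻¹) * c := by rw [he]
        _ = _ := by group
  have hne : normalizer B ≠ ⊤ := by
    intro h
    have hn : (closure B).Normal := by
      refine ⟨fun a ha c => ?_⟩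
      induction ha using closure_induction with
      | mem a ha =>
        exact subset_closure ((mem_set_normalizer_iff.1 (h ▸ mem_top c) a).1 ha)
      | one => simp
      | mul a b _ _ h1 h2 =>
        have := mul_mem h1 h2
        simpa [mul_assoc] using this
      | inv a _ h1 =>
        have := inv_mem h1
        simpa [mul_assoc] using this
    rcases minSimple_normal_eq_bot_or_top hG hn with h' | h'
    · exact hx1 (mem_bot.1 (h' ▸ subset_closure hxB))
    · exact hM.1 (top_le_iff.1 (h' ▸ (closure_le M).2 hBM))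
  rw [← (hM.le_iff.1 hMN).resolve_left hne]
  by_contra hg
  exact hx1 (hTI' g hg _ hxB hy)

/-- Theorem II. -/
theorem theoremII {X : Set G} (hX : X = supportA M ∨ X = supportA0 M) :
    (∀ x ∈ X, ∀ g : G, g * x * g⁻¹ ∈ X → ∃ m ∈ M, m * x * m⁻¹ = g * x * g⁻¹) ∧
      (∀ x ∈ X, ¬ centralizer ({x} : Set G) ≤ M → x ∈ Cfsg.typeA1 M ∧
        ∃! L : Subgroup G, IsCoatom L ∧ centralizer ({x} : Set G) ≤ L) ∧
      ∀ x ∈ X, ¬ centralizer ({x} : Set G) ≤ M → ∀ L : Subgroup G, IsCoatom L →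
        centralizer ({x} : Set G) ≤ L →
        Cfsg.IsComplIn (Cfsg.fittingHallOf L) (M ⊓ L) L ∧
        centralizer ({x} : Set G) ≤
          normalizer ((Cfsg.fittingHallOf L ⊓ centralizer ({x} : Set G) : Subgroup G) : Set G) ∧
        Cfsg.IsComplIn (Cfsg.fittingHallOf L ⊓ centralizer ({x} : Set G))
          (M ⊓ centralizer ({x} : Set G)) (centralizer ({x} : Set G)) ∧
        (∀ y ∈ X, (Nat.card (Cfsg.fittingHallOf L)).Coprime
          (Nat.card ↥(M ⊓ centralizer ({y} : Set G)))) ∧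
        (x ∈ supportA L ∧ x ∉ Cfsg.typeA1 L) ∧
        (IsTypeI L ∨ Cfsg.IsOfTypeII L) ∧
        (Cfsg.IsOfTypeII L → ∃ E : Subgroup ↥M, Cfsg.IsFrobeniusComplement E ∧
          Cfsg.frobeniusKernel E = ((Cfsg.fittingHall ↥M : Subgroup ↥M) : Set ↥M)) := by
  obtain ⟨K, U, hKU⟩ := exists_decomp' hG hM F
  have hsupp : ∀ x ∈ X, ¬ centralizer ({x} : Set G) ≤ M →
      x ∈ Cfsg.sigmaCore M ∧ x ≠ 1 := by
    intro x hx hC
    rcases typeA0_cases hG hM F hKU hX hx with h | h | ⟨hK, m, hm, z, hz, rfl⟩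
    · exact h
    · exact absurd (sigmaA_centralizer_le hG hM F hKU h) hC
    · exact absurd (zHat_conj_le hG hM F hKU hK hm hz).1 hC
  refine ⟨fun x hx g hgx => ?_, fun x hx hC => ?_, fun x hx hC L hL hxL => ?_⟩
  · have hxM := mem_M_of_cases hG hM F hKU hX hx
    have hyM := mem_M_of_cases hG hM F hKU hX hgx
    have hord : orderOf (g * x * g⁻¹) = orderOf x := MulEquiv.orderOf_eq (MulAut.conj g) x
    by_cases hxS : x ∈ Cfsg.sigmaCore M
    · have hyS := mem_sigmaCore_of_orderOf hG hM F hxS hyM hord.dvd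
      obtain ⟨-, hfus⟩ := F.sigmaFusion M hM (Cfsg.sigmaCore M) le_rfl
        (minSimple_sigmaCore_ne_bot hG hM) (by rw [relIndex_self]; exact Nat.coprime_one_right _)
      obtain ⟨n, hn, he⟩ := hfus x hxS g hyS
      exact ⟨n, hn.1, he⟩
    refine ⟨g, ?_, rfl⟩
    have hyS : g * x * g⁻¹ ∉ Cfsg.sigmaCore M := fun h =>
      hxS (mem_sigmaCore_of_orderOf hG hM F h hxM hord.symm.dvd)
    rcases typeA0_cases hG hM F hKU hX hx with h | h | ⟨hK, m, hm, z, hz, hxe⟩
    · exact absurd h.1 hxS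
    · rcases typeA0_cases hG hM F hKU hX hgx with h' | h' | ⟨hK, m', hm', z', hz', he⟩
      · exact absurd h'.1 hyS
      · exact sigmaA_diff_fusion hG hM F hKU h h'
      · obtain ⟨-, r, hr, hd⟩ := zHat_conj_le hG hM F hKU hK hm' hz'
        exact absurd (hord ▸ he.symm ▸ hd) (not_kappa_of_sigmaA hG hM F hKU h.1 hr)
    · obtain ⟨-, r, hr, hd⟩ := zHat_conj_le hG hM F hKU hK hm hz
      rcases typeA0_cases hG hM F hKU hX hgx with h' | h' | ⟨-, m', hm', z', hz', he⟩
      · exact absurd h'.1 hyS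
      · refine absurd ?_ (not_kappa_of_sigmaA hG hM F hKU h'.1 hr)
        rw [hord, hxe]; exact hd
      · subst hxe
        exact zHat_fusion hG hM F hKU hK hm hz ⟨m', hm', z', hz', he⟩
  · obtain ⟨hxS, hx1⟩ := hsupp x hx hC
    obtain ⟨N, hN, huniq, -⟩ := F.signalizer M hM x hxS hx1 hC
    exact ⟨by rw [typeA1_eq hG hM F]; exact ⟨hxS, hx1⟩,
      N, hN, fun L hL => huniq L hL.1 hL.2⟩
  · obtain ⟨hxS, hx1⟩ := hsupp x hx hC
    obtain ⟨N, ⟨hN, hxN⟩, huniq, hNF, hn, hc, hMN, hUA⟩ := F.signalizer M hM x hxS hx1 hC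
    obtain rfl := huniq L hL hxL
    obtain ⟨K', U', hLU⟩ := exists_decomp' hG hL F
    obtain ⟨hU'1, hxA, hxnS⟩ := hUA K' U' hLU
    refine ⟨hNF ▸ isComplIn_symm hMN, hNF ▸ hn, hNF ▸ isComplIn_symm hc, fun y hy => ?_, ?_, ?_, ?_⟩
    · rw [← hNF]
      refine Nat.coprime_of_dvd fun r hr h1 h2 => ?_
      have hrL : r ∈ Cfsg.sigma L := isPiSubgroup_sigmaCore L r hr h1
      obtain ⟨hκ, hτ⟩ := (F.supportConfig M hM x hxS hx1 hC L hL hxL).1
        ⟨r, hrL, h2.trans (card_dvd_of_le inf_le_left)⟩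
      have hK := (K_eq_bot_iff hKU.hall).2 hκ
      have hsup := sup_eq_of_isComplIn (compl_of_K_bot hKU hK)
      have hall : ∀ a, a ∈ Cfsg.sigmaHat M → a ∈ Cfsg.sigmaCore M := by
        intro a ha
        by_contra haS
        obtain ⟨q, -, hq, -⟩ :=
          sigmaA_power hG hM F hKU (a := a) ⟨⟨ha, by rw [SetLike.mem_coe, hsup]; exact ha.1⟩, haS⟩
        rw [hτ] at hq
        exact hq
      obtain ⟨hyS, hy1⟩ : y ∈ Cfsg.sigmaCore M ∧ y ≠ 1 := by
        rcases typeA0_cases hG hM F hKU hX hy with h | h | ⟨hK', -⟩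
        · exact h
        · exact absurd (hall y h.1.1) h.2
        · exact absurd hK hK'
      have hle : M ⊓ centralizer ({y} : Set G) ≤ Cfsg.sigmaCore M := fun c hc =>
        hall c ⟨hc.1, y, hyS, hy1, mem_centralizer_singleton_iff.1 hc.2⟩
      have hrM : r ∈ Cfsg.sigma M := isPiSubgroup_sigmaCore M r hr (h2.trans (card_dvd_of_le hle))
      obtain ⟨g, hg⟩ := F.sigmaConj M L hM hL ⟨r, hrM, hrL⟩
      refine hxnS ?_
      have hS := sigmaCore_hall hG hL
      have hxL' : x ∈ L := hxL (mem_centralizer_singleton_iff.2 rfl)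
      refine zpowers_le.1 (le_of_normal_hall hS.1 (le_normalizer_sigmaCore L)
        (coprime_relIndex_of_isPiHallOf hS) (zpowers_le.2 hxL') fun q hq hqd => ?_)
      haveI := Fact.mk hq
      have hqM : q ∈ Cfsg.sigma M :=
        isPiSubgroup_sigmaCore M q hq (hqd.trans (card_dvd_of_le (zpowers_le.2 hxS)))
      exact dvd_sigmaCore_of_sigma hG hL (by rw [hg, BG11.sigma_map_conj]; exact hqM)
    · rw [typeA_eq hG hL F hLU, typeA1_eq hG hL F]
      exact ⟨⟨hxA, hx1⟩, fun h => hxnS h.1⟩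
    · by_cases hK' : K' = ⊥
      · exact Or.inl ((typeI_iff hG hL F hLU).2 ⟨hK', hU'1⟩)
      · exact Or.inr ((typeII_iff hG hL F hLU).2 ⟨hK', hU'1⟩)
    · intro hII
      have hK' := ((typeII_iff hG hL F hLU).1 hII).1
      obtain ⟨-, ⟨E, hE, -⟩, -⟩ :=
        F.supportFrobenius M hM x hxS hx1 hC L hL hxL ((K_ne_bot_iff hLU.hall).1 hK')
      exact ⟨E, hE, frobeniusKernel_eq_fittingHall hE⟩

end

end CfsgLib.OddOrder.BG16
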