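import Cfsg.Agent.OddOrder.BG16.Assemble
import Cfsg.Agent.OddOrder.BG16.TheoremI
import Cfsg.Agent.OddOrder.BG16.TheoremII
import Cfsg.Agent.OddOrder.PF8.Basic
import Cfsg.Agent.OddOrder.PF10.Facts
import Cfsg.Agent.S1379

/-!
# `BG16Facts` and `FTFacts` hold in a minimal simple group of odd order
-/

set_option autoImplicit false

namespace CfsgLib.OddOrder

open Cfsg
open Subgroup (centralizer normalizer)

universe u

variable {G : Type u} [Group G] [Finite G]

theorem bg16Facts (hG : Cfsg.IsMinSimpleOddOrder G) : BG16Facts G where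
  exists_kappa M hM :=
    ⟨(BG16.exists_kappa_hall hG hM (BG16.bg1215Facts hG)).imp fun _ h => h.1,
      fun K hK => (BG16.bg1215Facts hG).kappaCyclic M hM K hK⟩
  exists_decomp _ _ hM hKc hK := BG16.exists_decomp hG hM (BG16.tauFacts hG) hKc hK
  chain M hM :=
    let h := (BG16.bg1215Facts hG).fittingChain M hM
    ⟨h.1, h.2.1, h.2.2.1, h.2.2.2.1⟩
  typeI _ _ _ hM hKU := BG16.typeI_iff hG hM (BG16.bg1215Facts hG) hKU
  typeII _ _ _ hM hKU := BG16.typeII_iff hG hM (BG16.bg1215Facts hG) hKU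
  typeIII_IV _ _ _ hM hKU := BG16.typeIII_IV_iff hG hM (BG16.bg1215Facts hG) hKU
  typeV _ _ _ hM hKU := BG16.typeV_iff hG hM (BG16.bg1215Facts hG) hKU
  sigma_conj := (BG16.bg1215Facts hG).sigmaConj
  coreHall _ hM := BG16.typeCore_facts hG hM (BG16.bg1215Facts hG)
  complFacts _ _ hM hU := (BG16.compl_facts hG hM (BG16.bg1215Facts hG) hU).2.1
  theoremII M X hM hX := by
    obtain ⟨h1, h2, h3⟩ := BG16.theoremII hG hM (BG16.bg1215Facts hG) hX
    refine ⟨h1, h2, fun x hx hC L hL hxL => ?_⟩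
    obtain ⟨a, b, c, d, e, f, -⟩ := h3 x hx hC L hL hxL
    exact ⟨a, b, c, d, e, f⟩

/-- The facts of BG 14-16 used in the endgame. -/
theorem ftFacts (hG : Cfsg.IsMinSimpleOddOrder G) : FTFacts G where
  toBG16Facts := bg16Facts hG
  fitting_sigma M K U hM hKU hne := ((BG16.bg1215Facts hG).coreNe M hM K U hKU hne).1
  complSylow _ _ hM hI hU := (BG16.compl_facts hG hM (BG16.bg1215Facts hG) (Or.inl ⟨hI, hU⟩)).1
  sigma_cover := (Cfsg.Agent.S1378.result hG).1
  supporting_II _ hM x hx hC L hL hxL :=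
    ((BG16.theoremII hG hM (BG16.bg1215Facts hG) (Or.inl rfl)).2.2 x hx hC L hL hxL).2.2.2.2.2.2
  tilde_disjoint := (Cfsg.Agent.S1379.result hG).1
  tilde_cover := (Cfsg.Agent.S1379.result hG).2.1
  tilde_zhat := (Cfsg.Agent.S1379.result hG).2.2
  primeKstar M K U hM hKU := (BG16.bg1215Facts hG).primeKstar M hM K U hKU
  exceptional := BG16.theoremI hG (BG16.bg1215Facts hG) |>.imp id fun h => h

end CfsgLib.OddOrder
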