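import Cfsg.Agent.OddOrder.BG16.Facts
import Cfsg.Agent.S1417
import Cfsg.Agent.S1418
import Cfsg.Agent.S1420
import Cfsg.Agent.S1421
import Cfsg.Agent.S1430

/-!
# The hypotheses of Theorem B of BG 16 hold
-/

set_option autoImplicit false

namespace CfsgLib.OddOrder.BG16

variable {G : Type*} [Group G] [Finite G]

theorem tauFacts (hG : Cfsg.IsMinSimpleOddOrder G) : TauFacts G where
  tauTwo M hM p _ hp A hA := Cfsg.Agent.S1417.result hG M hM p hp A hA
  tauTwoCompl M hM E hE p _ hp A hA := Cfsg.Agent.S1418.result hG M hM E hE p hp A hA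
  sigmaPrimeNilpotent M hM E hE := Cfsg.Agent.S1420.result hG M hM E hE
  regularExponent M hM E hE h := Cfsg.Agent.S1421.result hG M hM E hE h
  kappaStructure M hM K hK hK1 := Cfsg.Agent.S1430.result hG M hM K hK hK1

end CfsgLib.OddOrder.BG16
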