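import Cfsg.Agent.OddOrder.BG16.Decomp
import Cfsg.Agent.OddOrder.BG11.Groups

/-!
# BG 16, Theorem B: the structure of `U` and its elements fixing points of `M_σ`
-/

set_option autoImplicit false
set_option linter.style.haveILetI false
set_option linter.unusedSectionVars false

namespace CfsgLib.OddOrder.BG16

open Cfsg Subgroup CfsgLib
open CfsgLib.ConjFunctor (IsSylowIn)

variable {G : Type*} [Group G] [Finite G] {M K U : Subgroup G} {p : ℕ}

/-- A complement of `M_σ` in `M`. -/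
theorem exists_complIn_sigmaCore (hG : Cfsg.IsMinSimpleOddOrder G) (hM : IsCoatom M) :
    ∃ E : Subgroup G, Cfsg.IsComplIn E (Cfsg.sigmaCore M) M :=
  (exists_isPiHallOf {q | q.Prime ∧ q ∉ Cfsg.sigma M} (minSimple_coatom_solvable hG hM)).imp
    fun E hE => isComplIn_of_isPiHallOf (le_normalizer_sigmaCore M) (sigmaCore_hall hG hM) hE
      fun r hr => ⟨fun h => h.2, fun h => show _ ∧ _ from ⟨hr, h⟩⟩

theorem compl_of_K_bot (hKU : Cfsg.IsSigmaDecomposition M K U) (hK : K = ⊥) :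
    Cfsg.IsComplIn U (Cfsg.sigmaCore M) M := by
  simpa [hK] using hKU.compl

section
variable (hG : Cfsg.IsMinSimpleOddOrder G) (hM : IsCoatom M) (F : TauFacts G)
include hG hM F

/-- A `σ(M)'`-element of `τ₂(M)` fixing a point has its centralizer in `M` alone. -/
theorem tau2_elem_unique [Fact p.Prime] (hp : p ∈ Cfsg.tau2 M) {x : G} (hx : orderOf x = p)
    (hfix : x ∈ Cfsg.sigmaHat M) :
    centralizer ({x} : Set G) ≤ M ∧
      ∀ L : Subgroup G, IsCoatom L → centralizer ({x} : Set G) ≤ L → L = M := by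
  obtain ⟨E, hE⟩ := exists_complIn_sigmaCore hG hM
  refine (F.sigmaPrimeNilpotent M hM E hE).2.2.2 x hfix.1 ?_ ?_ hfix
  · rintro rfl
    rw [orderOf_one] at hx
    exact (Fact.out : p.Prime).ne_one hx.symm
  · intro r hr hd
    rw [hx] at hd
    rwa [(Nat.prime_dvd_prime_iff_eq hr Fact.out).1 hd]

theorem isMulCommutative_of_pGroup [Fact p.Prime] (hp : p ∉ Cfsg.sigma M) {P : Subgroup G}
    (hPM : P ≤ M) (hP : IsPGroup p P) : IsMulCommutative P := by
  obtain ⟨E, hE⟩ := exists_complIn_sigmaCore hG hM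
  refine (F.sigmaPrimeNilpotent M hM E hE).1 P hPM hP.isNilpotent fun r hr hd => ?_
  rwa [isPiSubgroup_of_isPGroup hP (Set.mem_singleton p) r hr hd]

/-- Theorem C (1): `U` is abelian if `K ≠ 1`. -/
theorem U_abelian (hKU : Cfsg.IsSigmaDecomposition M K U) (hK : K ≠ ⊥) : IsMulCommutative U := by
  obtain ⟨U', hab, hU', hn, -⟩ := (F.kappaStructure M hM K hKU.hall hK).2.1
  have h := decomp_hall_U hG hM hKU
  obtain ⟨m, hm, hle⟩ := exists_conj_le_isPiHallOf (minSimple_coatom_solvable hG hM) h.1 h.2.1 hU'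
  have hcomm : IsMulCommutative ↥(U.map (MulAut.conj m).toMonoidHom) :=
    ⟨⟨fun a b => Subtype.ext (congrArg Subtype.val
      (hab.is_comm.comm ⟨a, hle a.2⟩ ⟨b, hle b.2⟩) :)⟩⟩
  exact isMulCommutative_of_equiv (U.equivMapOfInjective _ (MulAut.conj m).injective).symm hcomm

/-- For `K = 1` the hypothesis of BG 12.13 holds. -/
theorem regular_tau13 (hKU : Cfsg.IsSigmaDecomposition M K U) :
    ∀ e ∈ U, e ≠ 1 → (∀ p : ℕ, p.Prime → p ∣ orderOf e → p ∈ Cfsg.tau1 M ∪ Cfsg.tau3 M) →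
      Cfsg.sigmaCore M ⊓ centralizer ({e} : Set G) = ⊥ := by
  intro e he he1 hπ
  by_contra h
  have hfix := (mem_sigmaHat_iff (decomp_U_le hKU he)).2 h
  obtain ⟨r, y, hr, hy, hyr⟩ := exists_zpow_prime_order he1
  haveI := Fact.mk hr
  have h2 := mem_tau2_of_U hG hM hKU (zpowers_le.2 he hy) hyr (sigmaHat_zpow hfix hy)
  have hd : r ∣ orderOf e := hyr ▸ orderOf_dvd_of_mem_zpowers hy
  rcases hπ r hr hd with h1 | h3
  · exact h2.2.2.2 h1.2.2.2.2
  · exact h2.2.2.2 h3.2.2.2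

/-- An abelian normal subgroup of `U` containing its elements fixing points of `M_σ`. -/
theorem exists_A0 (hKU : Cfsg.IsSigmaDecomposition M K U) :
    ∃ A₀ : Subgroup G, A₀ ≤ U ∧ U ≤ normalizer (A₀ : Set G) ∧ IsMulCommutative A₀ ∧
      ∀ u ∈ U, u ∈ Cfsg.sigmaHat M → u ∈ A₀ := by
  by_cases hK : K = ⊥
  · obtain ⟨⟨A, h1, h2, h3, h4⟩, -⟩ :=
      F.regularExponent M hM U (compl_of_K_bot hKU hK) (regular_tau13 hG hM F hKU)
    refine ⟨A, h1, h2, h3, fun u hu hfix => ?_⟩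
    obtain ⟨-, y, hy, hy1, hc⟩ := hfix
    exact h4 y hy hy1 ⟨hu, mem_centralizer_singleton_iff.2 hc⟩
  · exact ⟨U, le_rfl, le_normalizer, U_abelian hG hM F hKU hK, fun u hu _ => hu⟩

/-- Theorem B (2). -/
theorem closure_fix_abelian (hKU : Cfsg.IsSigmaDecomposition M K U) :
    IsMulCommutative (closure ((U : Set G) ∩ Cfsg.sigmaHat M)) := by
  obtain ⟨A, -, -, hab, hmem⟩ := exists_A0 hG hM F hKU
  have hle : closure ((U : Set G) ∩ Cfsg.sigmaHat M) ≤ A :=
    (closure_le _).2 fun u hu => hmem u hu.1 hu.2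
  exact ⟨⟨fun a b => Subtype.ext (congrArg Subtype.val
    (hab.is_comm.comm ⟨a, hle a.2⟩ ⟨b, hle b.2⟩) :)⟩⟩

/-- Theorem B (1). -/
theorem sylow_U_abelian (hKU : Cfsg.IsSigmaDecomposition M K U) (hp : p.Prime) (P : Sylow p U) :
    IsMulCommutative (P : Subgroup U) ∧ Cfsg.PRankLE p 2 (P : Subgroup U) := by
  haveI := Fact.mk hp
  by_cases hd : p ∣ Nat.card U
  swap
  · have hbot : (P : Subgroup U) = ⊥ := by
      obtain ⟨n, hn⟩ := IsPGroup.iff_card.1 P.isPGroup'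
      refine card_eq_one.1 ?_
      rcases n with _ | n
      · simpa using hn
      · exact absurd ((hn ▸ dvd_pow_self p n.succ_ne_zero).trans (card_subgroup_dvd_card _)) hd
    refine ⟨⟨⟨fun a b => Subtype.ext ?_⟩⟩, fun A _ _ => ?_⟩
    · have ha' : (a : U) = 1 := mem_bot.1 (hbot ▸ a.2)
      have hb' : (b : U) = 1 := mem_bot.1 (hbot ▸ b.2)
      simp [ha', hb']
    · refine le_trans (Nat.le_of_dvd Nat.card_pos (card_subgroup_dvd_card A)) ?_
      rw [hbot, card_bot]; exact Nat.one_le_pow _ _ hp.pos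
  have hs := (not_sigma_of_dvd_U hG hM hKU hp hd).1
  set f : U →* G := U.subtype
  have h := isMulCommutative_of_pGroup hG hM F hs
    ((map_subtype_le (P : Subgroup U)).trans (decomp_U_le hKU)) (P.isPGroup'.map f)
  refine ⟨isMulCommutative_of_equiv ((P : Subgroup U).equivMapOfInjective f
    U.subtype_injective).symm h, fun A hA he => ?_⟩
  haveI := hA
  set g : (P : Subgroup U) →* M :=
    (inclusion (decomp_U_le hKU)).comp (P : Subgroup U).subtype
  have hg : Function.Injective g :=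
    (inclusion_injective (decomp_U_le hKU)).comp (P : Subgroup U).subtype_injective
  rw [← card_map_of_injective (f := g) hg]
  refine pRankLE_two_of_not_mem_sigma hG hM hp hs (A.map g)
    (isMulCommutative_of_equiv (A.equivMapOfInjective g hg) hA) ?_
  rintro _ ⟨a, ha, rfl⟩
  rw [← map_pow, he a ha, map_one]

/-- For `p ∈ τ₂(M)` dividing `|U|`, `U` contains an elementary abelian subgroup of order `p²`. -/
theorem exists_plane_le_U (hKU : Cfsg.IsSigmaDecomposition M K U) [Fact p.Prime]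
    (hp : p ∈ Cfsg.tau2 M) (hk : p ∉ Cfsg.kappa M) :
    ∃ A : Subgroup G, A ≤ U ∧ Cfsg.IsElementaryAbelian p A ∧ Nat.card A = p ^ 2 := by
  obtain ⟨A, hAM, hA, hc⟩ := exists_elementary_card_sq hp.2.2.2
  obtain ⟨m, -, hm⟩ := exists_conj_le_isPiHallOf (minSimple_coatom_solvable hG hM) hAM
    (isPiSubgroup_of_isPGroup (isPGroup_of_isElementaryAbelian hA)
      (show p ∈ {q | q.Prime ∧ q ∉ Cfsg.kappa M ∧ q ∉ Cfsg.sigma M} from ⟨hp.1, hk, hp.2.1⟩))
    (decomp_hall_U hG hM hKU)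
  haveI := hA.1
  refine ⟨_, hm, ⟨isMulCommutative_of_equiv
    (A.equivMapOfInjective _ (MulAut.conj m).injective) hA.1, ?_⟩, by rw [card_map_conj, hc]⟩
  rintro _ ⟨a, ha, rfl⟩
  rw [← map_pow, hA.2 a ha, map_one]

/-- Theorem B (4). -/
theorem centralizer_unique (hKU : Cfsg.IsSigmaDecomposition M K U) {X : Subgroup G} (hXU : X ≤ U)
    (hX : X ≠ ⊥) (hXc : Cfsg.sigmaCore M ⊓ centralizer (X : Set G) ≠ ⊥) :
    centralizer (X : Set G) ≤ M ∧
      ∀ L : Subgroup G, IsCoatom L → centralizer (X : Set G) ≤ L → L = M := by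
  obtain ⟨⟨y, hy⟩, hy1⟩ := ne_bot_iff_exists_ne_one.1 hXc
  have hy1' : y ≠ 1 := fun h => hy1 (Subtype.ext h)
  have hfix : ∀ z ∈ X, z ∈ Cfsg.sigmaHat M := fun z hz =>
    ⟨decomp_U_le hKU (hXU hz), y, hy.1, hy1', mem_centralizer_iff.1 hy.2 z hz⟩
  obtain ⟨⟨z, hz⟩, hz1⟩ := ne_bot_iff_exists_ne_one.1 hX
  obtain ⟨r, x, hr, hx, hxr⟩ :=
    exists_zpow_prime_order (x := z) fun h => hz1 (Subtype.ext h)
  have hxX : x ∈ X := zpowers_le.2 hz hx
  haveI := Fact.mk hr
  have hτ := mem_tau2_of_U hG hM hKU (hXU hxX) hxr (hfix x hxX)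
  have hxd : r ∣ Nat.card U := by
    rw [← hxr, ← Nat.card_zpowers]; exact card_dvd_of_le (zpowers_le.2 (hXU hxX))
  have hk := (not_sigma_of_dvd_U hG hM hKU hr hxd).2
  have hxM := tau2_elem_unique hG hM F hτ hxr (hfix x hxX)
  have hle : centralizer (X : Set G) ≤ centralizer ({x} : Set G) :=
    centralizer_le (Set.singleton_subset_iff.2 hxX)
  refine ⟨hle.trans hxM.1, fun L hL hXL => ?_⟩
  obtain ⟨A, hAU, hA, hAc⟩ := exists_plane_le_U hG hM F hKU hτ hk
  by_contra hne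
  suffices hAX : A ≤ centralizer (X : Set G) by
    have h := (F.tauTwo M hM r hτ A ⟨hAU.trans (decomp_U_le hKU), hA, hAc⟩).2.2.2.2.1 L hL hne
      (hAX.trans hXL)
    exact hy1' (mem_bot.1 (h ▸ ⟨hy.1, hXL hy.2⟩))
  obtain ⟨A₀, hA₀U, hA₀n, hA₀, hmem⟩ := exists_A0 hG hM F hKU
  have hcomm0 : ∀ a ∈ A₀, ∀ b ∈ A₀, a * b = b * a := fun a ha b hb =>
    congrArg Subtype.val (hA₀.is_comm.comm ⟨a, ha⟩ ⟨b, hb⟩)
  intro a ha
  refine mem_centralizer_iff.2 fun w hw => ?_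
  by_cases hab : IsMulCommutative U
  · exact congrArg Subtype.val (hab.is_comm.comm ⟨w, hXU hw⟩ ⟨a, hAU ha⟩)
  have hK : K = ⊥ := by_contra fun h => hab (U_abelian hG hM F hKU h)
  obtain ⟨⟨hAn, hline⟩, -⟩ :=
    F.tauTwoCompl M hM U (compl_of_K_bot hKU hK) r hτ A ⟨hAU, hA, hAc⟩
  have hwA₀ := hmem w (hXU hw) (hfix w hw)
  by_cases haA₀ : A ≤ A₀
  · exact hcomm0 w hwA₀ a (haA₀ ha)
  -- `A ∩ A₀ = ⟨x⟩`
  have hxA : zpowers x ≤ A := hline _ (zpowers_le.2 (hXU hxX)) (by rw [Nat.card_zpowers, hxr])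
  have hx1 : x ≠ 1 := fun h => hr.ne_one (by rw [← hxr, h, orderOf_one])
  have hxA₀ : zpowers x ≤ A ⊓ A₀ :=
    le_inf hxA (zpowers_le.2 (hmem x (hXU hxX) (hfix x hxX)))
  have hI : A ⊓ A₀ = zpowers x := by
    refine (eq_of_le_of_card_ge hxA₀ (le_of_eq ?_)).symm
    rw [Nat.card_zpowers, hxr]
    exact BG11.card_eq_of_lt_of_ne_bot hAc
      (lt_of_le_of_ne inf_le_left fun h => haA₀ (h ▸ inf_le_right))
      fun h => hx1 (zpowers_eq_bot.1 (le_bot_iff.1 (h ▸ hxA₀)))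
  -- the commutator of `a` and `w` is a power of `x`
  set c := a * w * a⁻¹ * w⁻¹ with hcdef
  have hcI : c ∈ A ⊓ A₀ := by
    refine ⟨?_, A₀.mul_mem ((mem_normalizer_iff.1 (hA₀n (hAU ha)) w).1 hwA₀) (A₀.inv_mem hwA₀)⟩
    have h1 := (mem_normalizer_iff.1 (hAn (hXU hw)) a⁻¹).1 (A.inv_mem ha)
    have h2 := mul_mem ha h1
    simpa [hcdef, mul_assoc] using h2
  rw [hI] at hcI
  obtain ⟨i, hi⟩ := mem_zpowers_iff.1 hcI
  have hcw : Commute c w := hcomm0 c (hi ▸ zpow_mem (hmem x (hXU hxX) (hfix x hxX)) i) w hwA₀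
  have hcp : c ^ r = 1 := hA.2 c (hi ▸ zpow_mem (hxA (mem_zpowers x)) i)
  have hwr : Commute a (w ^ r) := by
    have h : a * w ^ r * a⁻¹ = w ^ r := by
      rw [← conj_pow, show a * w * a⁻¹ = c * w by simp [hcdef], hcw.mul_pow, hcp, one_mul]
    show a * w ^ r = w ^ r * a
    exact mul_inv_eq_iff_eq_mul.1 h
  set n := orderOf w with hn
  set m := ordCompl[r] n with hm
  have hwm : Commute a (w ^ m) := by
    have hwP : IsPGroup r (zpowers (w ^ m)) := by
      refine IsPGroup.of_card (n := n.factorization r) ?_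
      have hpos : m ≠ 0 := (Nat.ordCompl_pos r (orderOf_pos w).ne').ne'
      rw [Nat.card_zpowers, orderOf_pow' w hpos, ← hn, Nat.gcd_eq_right (Nat.ordCompl_dvd n r)]
      exact Nat.div_eq_of_eq_mul_left (Nat.pos_of_ne_zero hpos)
        (Nat.ordProj_mul_ordCompl_eq_self n r).symm
    have hwU : zpowers (w ^ m) ≤ U := zpowers_le.2 (pow_mem (hXU hw) m)
    have hAp := isPGroup_of_isElementaryAbelian hA
    have hP : IsPGroup r ↥(zpowers (w ^ m) ⊔ A) :=
      hwP.to_sup_of_normal_right' hAp (hwU.trans hAn)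
    have := isMulCommutative_of_pGroup hG hM F hτ.2.1
      ((sup_le hwU hAU).trans (decomp_U_le hKU)) hP
    exact congrArg Subtype.val (this.is_comm.comm ⟨a, mem_sup_right ha⟩
      ⟨w ^ m, mem_sup_left (mem_zpowers _)⟩)
  have hcop : r.Coprime m := Nat.coprime_ordCompl hr (orderOf_pos w).ne'
  obtain ⟨u, v, huv⟩ : ∃ u v : ℤ, (r : ℤ) * u + (m : ℤ) * v = 1 := by
    refine ⟨r.gcdA m, r.gcdB m, ?_⟩
    have := Nat.gcd_eq_gcd_ab r m
    rw [hcop] at this
    exact_mod_cast this.symm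
  have h := (hwr.zpow_right u).mul_right (hwm.zpow_right v)
  rw [← zpow_natCast, ← zpow_natCast, ← zpow_mul, ← zpow_mul, ← zpow_add, huv, zpow_one] at h
  exact h.symm.eq

/-- An element of `A(M) \ M_σ` has a power of prime order in `τ₂(M)`, fixing a point. -/
theorem sigmaA_power (hKU : Cfsg.IsSigmaDecomposition M K U) {a : G}
    (ha : a ∈ Cfsg.sigmaA M U \ (Cfsg.sigmaCore M : Set G)) :
    ∃ (r : ℕ) (y : G), r ∈ Cfsg.tau2 M ∧ y ∈ zpowers a ∧ orderOf y = r ∧ y ∈ Cfsg.sigmaHat M := by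
  obtain ⟨⟨hfix, haU⟩, haS⟩ := ha
  have hle : U ⊔ Cfsg.sigmaCore M ≤ M := sup_le (decomp_U_le hKU) (sigmaCore_le M)
  obtain ⟨r, hr, hd, hrs⟩ : ∃ r : ℕ, r.Prime ∧ r ∣ orderOf a ∧ r ∉ Cfsg.sigma M := by
    by_contra h
    push Not at h
    have hS := sigmaCore_hall hG hM
    exact haS (le_of_normal_hall hS.1 (le_normalizer_sigmaCore M)
      (coprime_relIndex_of_isPiHallOf hS) (zpowers_le.2 (hle haU)) (fun q hq hqd => by
        rw [Nat.card_zpowers] at hqd
        by_contra hq'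
        refine hS.2.2 q hq (h q hq hqd) ?_
        have h1 : q ∣ Nat.card (Cfsg.sigmaCore M) * (Cfsg.sigmaCore M).relIndex M := by
          rw [card_mul_relIndex (sigmaCore_le M)]
          refine hqd.trans ?_
          rw [← Nat.card_zpowers]
          exact card_dvd_of_le (zpowers_le.2 (hle haU))
        exact (hq.dvd_mul.1 h1).resolve_left hq') (mem_zpowers a))
  haveI := Fact.mk hr
  set y := a ^ (orderOf a / r)
  have hy : orderOf y = r := orderOf_pow_orderOf_div (orderOf_pos a).ne' hd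
  have hyz : y ∈ zpowers a := npow_mem_zpowers a _
  have hk : r ∉ Cfsg.kappa M := by
    intro hk
    have h1 : r ∣ Nat.card ↥(U ⊔ Cfsg.sigmaCore M) := by
      rw [← hy, ← Nat.card_zpowers]
      exact card_dvd_of_le ((zpowers_le.2 (zpowers_le.2 haU hyz)))
    have h2 : Nat.card ↥(U ⊔ Cfsg.sigmaCore M) ∣ Nat.card U * Nat.card (Cfsg.sigmaCore M) :=
      ⟨Nat.card ↥(U ⊓ Cfsg.sigmaCore M), (PLocal.card_sup_mul_card_inf
        ((decomp_U_le hKU).trans (le_normalizer_sigmaCore M))).symm⟩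
    exact (hr.dvd_mul.1 (h1.trans h2)).elim
      (fun h => (not_sigma_of_dvd_U hG hM hKU hr h).2 hk)
      fun h => hrs (isPiSubgroup_sigmaCore M r hr h)
  exact ⟨r, y, mem_tau2_of_fix hG hM hrs hk hy (sigmaHat_zpow hfix hyz), hyz, hy,
    sigmaHat_zpow hfix hyz⟩

theorem sigmaA_centralizer_le (hKU : Cfsg.IsSigmaDecomposition M K U) {a : G}
    (ha : a ∈ Cfsg.sigmaA M U \ (Cfsg.sigmaCore M : Set G)) : centralizer ({a} : Set G) ≤ M := by
  obtain ⟨r, y, hr, hy, hyr, hfix⟩ := sigmaA_power hG hM F hKU ha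
  haveI := Fact.mk hr.1
  exact (centralizer_le_of_mem_zpowers hy).trans (tau2_elem_unique hG hM F hr hyr hfix).1

theorem sigmaA_conj_mem (hKU : Cfsg.IsSigmaDecomposition M K U) {m a : G} (hm : m ∈ M)
    (ha : a ∈ Cfsg.sigmaA M U) : m * a * m⁻¹ ∈ Cfsg.sigmaA M U :=
  ⟨sigmaHat_conj hm ha.1, (mem_normalizer_iff.1 (le_normalizer_U_sup hKU hm) a).1 ha.2⟩

/-- Elements of `A(M) \ M_σ` conjugate in `G` are conjugate by elements of `M` only. -/
theorem sigmaA_diff_fusion (hKU : Cfsg.IsSigmaDecomposition M K U) {a g : G}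
    (ha : a ∈ Cfsg.sigmaA M U \ (Cfsg.sigmaCore M : Set G))
    (hg : g * a * g⁻¹ ∈ Cfsg.sigmaA M U \ (Cfsg.sigmaCore M : Set G)) : g ∈ M := by
  obtain ⟨r, y, hr, hy, hyr, hfix⟩ := sigmaA_power hG hM F hKU ha
  haveI := Fact.mk hr.1
  have hu := tau2_elem_unique hG hM F hr hyr hfix
  have hmap : (centralizer ({a} : Set G)).map (MulAut.conj g).toMonoidHom =
      centralizer ({g * a * g⁻¹} : Set G) := by
    rw [map_conj_centralizer, Set.image_singleton]
  have h1 : centralizer ({g * a * g⁻¹} : Set G) ≤ M := sigmaA_centralizer_le hG hM F hKU hg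
  -- the power `g y g⁻¹` lies in `M` and fixes a point
  have hy' : g * y * g⁻¹ ∈ zpowers (g * a * g⁻¹) := by
    obtain ⟨k, rfl⟩ := mem_zpowers_iff.1 hy
    exact mem_zpowers_iff.2 ⟨k, conj_zpow⟩
  have hu' := tau2_elem_unique hG hM F hr
    (x := g * y * g⁻¹) (by rw [← hyr]; exact MulEquiv.orderOf_eq (MulAut.conj g) y)
    (sigmaHat_zpow hg.1.1 hy')
  have h2 := hu'.2 _ (isCoatom_map_conj hM g) (by
    have : centralizer ({g * y * g⁻¹} : Set G) =
        (centralizer ({y} : Set G)).map (MulAut.conj g).toMonoidHom := by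
      rw [map_conj_centralizer, Set.image_singleton]
    rw [this]
    exact map_mono hu.1)
  rw [← minSimple_normalizer_coatom hG hM]
  exact map_conj_eq_self_iff.1 h2

/-- Theorem B (5). -/
theorem sigmaA_diff_TI (hKU : Cfsg.IsSigmaDecomposition M K U) :
    Cfsg.IsTISubset (Cfsg.sigmaA M U \ (Cfsg.sigmaCore M : Set G)) := by
  intro g hg x hx hgx
  refine absurd ?_ hg
  have hgM := sigmaA_diff_fusion hG hM F hKU hx hgx
  refine Subgroup.mem_set_normalizer_iff.2 fun n => ?_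
  constructor
  · exact fun hn => ⟨sigmaA_conj_mem hG hM F hKU hgM hn.1,
      fun h => hn.2 (by simpa [mul_assoc] using sigmaCore_conj_mem (inv_mem hgM) h)⟩
  · intro hn
    refine ⟨by simpa [mul_assoc] using sigmaA_conj_mem hG hM F hKU (inv_mem hgM) hn.1, fun h => ?_⟩
    exact hn.2 (sigmaCore_conj_mem hgM h)

end

end CfsgLib.OddOrder.BG16
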