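import Cfsg.Agent.OddOrder.BG16.Facts
import Cfsg.Agent.OddOrder.BG16.AssembleTau
import Cfsg.Agent.OddOrder.BG15.Assemble
import Cfsg.Agent.OddOrder.BG15.NonTI
import Cfsg.Agent.S1355
import Cfsg.Agent.S1356
import Cfsg.Agent.S1357
import Cfsg.Agent.S1368
import Cfsg.Agent.S1370
import Cfsg.Agent.S1371
import Cfsg.Agent.S1372
import Cfsg.Agent.S1373
import Cfsg.Agent.S1375
import Cfsg.Agent.S1376
import Cfsg.Agent.S1378
import Cfsg.Agent.S1434
import Cfsg.Agent.S1435
import Cfsg.Agent.S1436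
import Cfsg.Agent.S1437
import Cfsg.Agent.S1438

/-!
# The results of BG 12-15 used in BG 16 hold
-/

set_option autoImplicit false

namespace CfsgLib.OddOrder.BG16

open Cfsg.Agent

variable {G : Type*} [Group G] [Finite G]

theorem bg1215Facts (hG : Cfsg.IsMinSimpleOddOrder G) : BG1215Facts G where
  toTauFacts := tauFacts hG
  kappaCyclic _ hM _ hK := BG14.kappa_hall_isCyclic (BG14.bg13Facts hG) hG hM hK
  sigmaConj := (S1378.result hG).2
  typePCount M hM K U hKU hK1 L hL h1 h2 := S1434.result hG M hM K U hKU hK1 L hL h1 h2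
  typePU M hM K U hKU hK1 hU1 L hL h1 h2 r _ hr R H hH hNR :=
    S1435.result hG M hM K U hKU hK1 hU1 L hL h1 h2 r hr R H hH hNR
  supportConfig M hM x hx hx1 hxM N hN hxN := S1436.result hG M hM x hx hx1 hxM N hN hxN
  starExists M hM K U hKU hK1 := S1366.result hG M hM K U hKU hK1
  starInter M hM K U hKU hK1 L hL h1 h2 := S1368.result hG M hM K U hKU hK1 L hL h1 h2
  starClasses M hM K U hKU hK1 L hL h1 h2 := S1369.result hG M hM K U hKU hK1 L hL h1 h2
  zHatTI M hM K U hKU hK1 := S1370.result hG M hM K U hKU hK1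
  zHatA0 M hM K U hKU hK1 := S1371.result hG M hM K U hKU hK1
  primeKappa M hM K U hKU hK1 hU1 := S1372.result hG M hM K U hKU hK1 hU1
  primeKstar M hM K U hKU hK1 hU := S1373.result hG M hM K U hKU hK1 hU
  signalizer M hM x hx hx1 hxM := S1375.result hG M hM x hx hx1 hxM
  supportFrobenius M hM x hx hx1 hxM N hN hxN hkN :=
    S1376.result hG M hM x hx hx1 hxM N hN hxN hkN
  fittingChain M hM := S1355.result hG M hM
  fittingEq M hM := S1356.result hG M hM
  coreNe M hM K U hKU hne := S1357.result hG M hM K U hKU hne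
  coreNeStructure M hM K U hKU hne := S1437.result hG M hM K U hKU hne
  sigmaFusion M hM H hH hH1 hHall := S1438.result hG M hM H hH hH1 hHall
  fittingNotTI M hM K U hKU g hg hX :=
    let h := BG15.fitting_inter_structure (BG15.bg14Facts hG) hG hM hKU hg hX
    ⟨h.1, h.2.2.2.1, h.2.2.2.2⟩

end CfsgLib.OddOrder.BG16
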