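import Cfsg.Agent.OddOrder.BG16.Facts
import Cfsg.Agent.OddOrder.BG10.Cores
import Cfsg.Agent.OddOrder.BG15.Basic
import Cfsg.Agent.OddOrder.BG15.HallTools
import Cfsg.Agent.Coprime.Basic

/-!
# BG 16: the standard factorisation `M = K U M_σ`

General lemmas, existence and uniqueness up to conjugacy of the standard factorisation, and the
primes of `U` whose elements fix points of `M_σ`.
-/

set_option autoImplicit false
set_option linter.style.haveILetI false
set_option linter.unusedSectionVars false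

namespace CfsgLib.OddOrder.BG16

open Cfsg Subgroup CfsgLib

variable {G : Type*} [Group G] [Finite G]

/-! ### General lemmas -/

theorem exists_zpow_prime_order {x : G} (hx : x ≠ 1) :
    ∃ (p : ℕ) (y : G), p.Prime ∧ y ∈ zpowers x ∧ orderOf y = p := by
  have h1 : orderOf x ≠ 1 := fun h => hx (orderOf_eq_one_iff.1 h)
  have hp := Nat.minFac_prime h1
  exact ⟨_, x ^ (orderOf x / (orderOf x).minFac), hp, npow_mem_zpowers x _,
    orderOf_pow_orderOf_div (orderOf_pos x).ne' (Nat.minFac_dvd _)⟩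

theorem centralizer_le_of_mem_zpowers {x y : G} (hy : y ∈ zpowers x) :
    centralizer ({x} : Set G) ≤ centralizer ({y} : Set G) := by
  intro c hc
  rw [mem_centralizer_singleton_iff] at hc ⊢
  obtain ⟨k, rfl⟩ := mem_zpowers_iff.1 hy
  exact (Commute.zpow_right hc k).eq

/-- Complements by counting. -/
theorem isComplIn_of_card {A B M : Subgroup G} (hA : A ≤ M) (hB : B ≤ M) (hI : A ⊓ B = ⊥)
    (hc : Nat.card A * Nat.card B = Nat.card M) : Cfsg.IsComplIn A B M := by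
  refine ⟨hA, hB, hI, fun m hm => ?_⟩
  have hinj : Function.Injective
      (fun z : A × B => (⟨(z.1 : G) * z.2, mul_mem (hA z.1.2) (hB z.2.2)⟩ : M)) := fun x y h =>
    Subgroup.mul_injective_of_disjoint (disjoint_iff.2 hI) (congrArg Subtype.val h)
  have hbij := (Nat.bijective_iff_injective_and_card _).2 ⟨hinj, by rw [Nat.card_prod, hc]⟩
  obtain ⟨z, hz⟩ := hbij.2 ⟨m, hm⟩
  exact ⟨_, z.1.2, _, z.2.2, (congrArg Subtype.val hz).symm⟩

theorem sup_eq_of_isComplIn {A B M : Subgroup G} (h : Cfsg.IsComplIn A B M) : A ⊔ B = M := by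
  refine le_antisymm (sup_le h.1 h.2.1) fun m hm => ?_
  obtain ⟨a, ha, b, hb, rfl⟩ := h.2.2.2 m hm
  exact mul_mem_sup ha hb

theorem isComplIn_symm {A B M : Subgroup G} (h : Cfsg.IsComplIn A B M) : Cfsg.IsComplIn B A M := by
  refine ⟨h.2.1, h.1, inf_comm B A ▸ h.2.2.1, fun m hm => ?_⟩
  obtain ⟨a, ha, b, hb, e⟩ := h.2.2.2 m⁻¹ (inv_mem hm)
  exact ⟨b⁻¹, inv_mem hb, a⁻¹, inv_mem ha, by rw [← mul_inv_rev, ← e, inv_inv]⟩

theorem isComplIn_map_conj {A B M : Subgroup G} (h : Cfsg.IsComplIn A B M) (g : G) :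
    Cfsg.IsComplIn (A.map (MulAut.conj g).toMonoidHom) (B.map (MulAut.conj g).toMonoidHom)
      (M.map (MulAut.conj g).toMonoidHom) := by
  refine ⟨map_mono h.1, map_mono h.2.1, ?_, ?_⟩
  · rw [← map_inf _ _ _ (MulAut.conj g).injective, h.2.2.1, Subgroup.map_bot]
  · rintro _ ⟨m, hm, rfl⟩
    obtain ⟨a, ha, b, hb, rfl⟩ := h.2.2.2 m hm
    exact ⟨_, mem_map_of_mem _ ha, _, mem_map_of_mem _ hb, map_mul _ _ _⟩

theorem isCyclic_map_conj {A : Subgroup G} (h : IsCyclic A) (g : G) :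
    IsCyclic ↥(A.map (MulAut.conj g).toMonoidHom) :=
  (A.equivMapOfInjective _ (MulAut.conj g).injective).isCyclic.1 h

theorem isMulCommutative_of_equiv {A B : Type*} [Group A] [Group B] (e : A ≃* B)
    (h : IsMulCommutative A) : IsMulCommutative B :=
  ⟨⟨fun a b => e.symm.injective (by rw [map_mul, map_mul]; exact h.is_comm.comm _ _)⟩⟩

/-! ### `M̂_σ` -/

theorem sigmaHat_zpow {M : Subgroup G} {a b : G} (ha : a ∈ Cfsg.sigmaHat M) (hb : b ∈ zpowers a) :
    b ∈ Cfsg.sigmaHat M := by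
  obtain ⟨haM, y, hy, hy1, hc⟩ := ha
  obtain ⟨k, rfl⟩ := mem_zpowers_iff.1 hb
  exact ⟨zpow_mem haM k, y, hy, hy1, (Commute.zpow_left hc k).eq⟩

theorem sigmaCore_conj_mem {M : Subgroup G} {m y : G} (hm : m ∈ M) (hy : y ∈ Cfsg.sigmaCore M) :
    m * y * m⁻¹ ∈ Cfsg.sigmaCore M :=
  (mem_normalizer_iff.1 (le_normalizer_sigmaCore M hm) y).1 hy

theorem sigmaHat_conj {M : Subgroup G} {m a : G} (hm : m ∈ M) (ha : a ∈ Cfsg.sigmaHat M) :
    m * a * m⁻¹ ∈ Cfsg.sigmaHat M := by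
  obtain ⟨haM, y, hy, hy1, hc⟩ := ha
  refine ⟨mul_mem (mul_mem hm haM) (inv_mem hm), m * y * m⁻¹, sigmaCore_conj_mem hm hy,
    fun h => hy1 (conj_eq_one_iff.1 h), ?_⟩
  simpa [mul_assoc] using congrArg (fun z => m * z * m⁻¹) hc

theorem mem_sigmaHat_iff {M : Subgroup G} {a : G} (ha : a ∈ M) :
    a ∈ Cfsg.sigmaHat M ↔ Cfsg.sigmaCore M ⊓ centralizer ({a} : Set G) ≠ ⊥ := by
  rw [ne_bot_iff_exists_ne_one]
  constructor
  · rintro ⟨-, y, hy, hy1, hc⟩
    exact ⟨⟨y, hy, mem_centralizer_singleton_iff.2 hc.symm⟩, fun h => hy1 (congrArg Subtype.val h)⟩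
  · rintro ⟨⟨y, hy, hc⟩, hy1⟩
    exact ⟨ha, y, hy, fun h => hy1 (Subtype.ext h), (mem_centralizer_singleton_iff.1 hc).symm⟩

/-! ### The standard factorisation -/

section Decomp

variable {M K U : Subgroup G}

theorem decomp_K_le (hKU : Cfsg.IsSigmaDecomposition M K U) : K ≤ M := hKU.hall.1

theorem decomp_U_le (hKU : Cfsg.IsSigmaDecomposition M K U) : U ≤ M := hKU.compl.1

theorem kappa_inf_sigmaCore (hK : Cfsg.IsPiHallOf (Cfsg.kappa M) K M) :
    K ⊓ Cfsg.sigmaCore M = ⊥ :=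
  Coprime.inf_eq_bot_of_coprime (Nat.coprime_of_dvd fun r hr h1 h2 =>
    (hK.2.1 r hr h1).2.2.1 (isPiSubgroup_sigmaCore M r hr h2))

theorem card_sup_sigmaCore (hK : Cfsg.IsPiHallOf (Cfsg.kappa M) K M) :
    Nat.card ↥(K ⊔ Cfsg.sigmaCore M) = Nat.card K * Nat.card (Cfsg.sigmaCore M) := by
  rw [sup_comm, Coprime.card_sup_eq (hK.1.trans (le_normalizer_sigmaCore M))
    (inf_comm K (Cfsg.sigmaCore M) ▸ kappa_inf_sigmaCore hK), mul_comm]

theorem card_decomp (hKU : Cfsg.IsSigmaDecomposition M K U) :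
    Nat.card U * (Nat.card K * Nat.card (Cfsg.sigmaCore M)) = Nat.card M := by
  rw [← card_sup_sigmaCore hKU.hall, compl_card hKU.compl]

theorem le_normalizer_U_sup (hKU : Cfsg.IsSigmaDecomposition M K U) :
    M ≤ normalizer ((U ⊔ Cfsg.sigmaCore M : Subgroup G) : Set G) := by
  have hU : U ≤ normalizer ((U ⊔ Cfsg.sigmaCore M : Subgroup G) : Set G) :=
    le_sup_left.trans le_normalizer
  have hK : K ≤ normalizer ((U ⊔ Cfsg.sigmaCore M : Subgroup G) : Set G) := fun k hk =>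
    mem_normalizer_sup (hKU.normal hk) (le_normalizer_sigmaCore M (hKU.hall.1 hk))
  have hS : Cfsg.sigmaCore M ≤ normalizer ((U ⊔ Cfsg.sigmaCore M : Subgroup G) : Set G) :=
    le_sup_right.trans le_normalizer
  calc M = U ⊔ (K ⊔ Cfsg.sigmaCore M) := (sup_eq_of_isComplIn hKU.compl).symm
    _ ≤ _ := sup_le hU (sup_le hK hS)

theorem decomp_map_conj (hKU : Cfsg.IsSigmaDecomposition M K U) {m : G} (hm : m ∈ M) :
    Cfsg.IsSigmaDecomposition M (K.map (MulAut.conj m).toMonoidHom)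
      (U.map (MulAut.conj m).toMonoidHom) := by
  refine ⟨isCyclic_map_conj hKU.cyclic m, ?_, ?_, ?_⟩
  · have h := isPiHallOf_map_conj hKU.hall m
    rwa [map_conj_eq_self_of_mem hm] at h
  · have h := isComplIn_map_conj hKU.compl m
    rwa [Subgroup.map_sup, map_conj_eq_self_of_mem hm,
      map_conj_eq_self_iff.2 (le_normalizer_sigmaCore M hm)] at h
  · exact (map_mono hKU.normal).trans (map_conj_normalizer U m).le

variable (hG : Cfsg.IsMinSimpleOddOrder G) (hM : IsCoatom M)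
include hG hM

theorem sigmaCore_hall : Cfsg.IsPiHallOf (Cfsg.sigma M) (Cfsg.sigmaCore M) M :=
  (sigmaCore_isHall hG hM).1

/-- In the standard factorisation `U` is a Hall `(κ(M) ∪ σ(M))'`-subgroup of `M`. -/
theorem decomp_hall_U (hKU : Cfsg.IsSigmaDecomposition M K U) :
    Cfsg.IsPiHallOf {q | q.Prime ∧ q ∉ Cfsg.kappa M ∧ q ∉ Cfsg.sigma M} U M := by
  have hc := card_decomp hKU
  have hU := card_mul_relIndex (decomp_U_le hKU)
  have hKi := card_mul_relIndex hKU.hall.1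
  have hSi := card_mul_relIndex (sigmaCore_le M)
  have hUK : K.relIndex M = Nat.card U * Nat.card (Cfsg.sigmaCore M) := by
    refine Nat.eq_of_mul_eq_mul_left (Nat.card_pos (α := K)) ?_
    rw [hKi, ← hc]; ring
  have hUS : (Cfsg.sigmaCore M).relIndex M = Nat.card U * Nat.card K := by
    refine Nat.eq_of_mul_eq_mul_left (Nat.card_pos (α := Cfsg.sigmaCore M)) ?_
    rw [hSi, ← hc]; ring
  have hUU : U.relIndex M = Nat.card K * Nat.card (Cfsg.sigmaCore M) :=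
    Nat.eq_of_mul_eq_mul_left (Nat.card_pos (α := U)) (by rw [hU, hc])
  refine ⟨decomp_U_le hKU, fun r hr hd => ⟨hr, fun hk => ?_, fun hs => ?_⟩, fun r hr hrπ hd => ?_⟩
  · exact hKU.hall.2.2 r hr hk (hUK ▸ hd.mul_right _)
  · exact (sigmaCore_hall hG hM).2.2 r hr hs (hUS ▸ hd.mul_right _)
  · rw [hUU] at hd
    exact (hr.dvd_mul.1 hd).elim (fun h => hrπ.2.1 (hKU.hall.2.1 r hr h))
      fun h => hrπ.2.2 (isPiSubgroup_sigmaCore M r hr h)

theorem not_sigma_of_dvd_U (hKU : Cfsg.IsSigmaDecomposition M K U) {r : ℕ} (hr : r.Prime)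
    (hd : r ∣ Nat.card U) : r ∉ Cfsg.sigma M ∧ r ∉ Cfsg.kappa M :=
  ⟨((decomp_hall_U hG hM hKU).2.1 r hr hd).2.2, ((decomp_hall_U hG hM hKU).2.1 r hr hd).2.1⟩

omit hG hM in
theorem K_ne_bot_iff (hK : Cfsg.IsPiHallOf (Cfsg.kappa M) K M) :
    K ≠ ⊥ ↔ (Cfsg.kappa M).Nonempty := by
  constructor
  · intro h
    have hne : 1 < Nat.card K := K.one_lt_card_iff_ne_bot.2 h
    obtain ⟨p, hp, hd⟩ := Nat.exists_prime_and_dvd hne.ne'
    exact ⟨p, hK.2.1 p hp hd⟩
  · rintro ⟨p, hp⟩ rfl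
    refine hK.2.2 p hp.1 hp ?_
    rw [relIndex_bot_left]
    exact hp.2.1

omit hG hM in
theorem K_eq_bot_iff (hK : Cfsg.IsPiHallOf (Cfsg.kappa M) K M) :
    K = ⊥ ↔ Cfsg.kappa M = ∅ := by
  rw [← not_iff_not, ← ne_eq, ← ne_eq, ← Set.nonempty_iff_ne_empty]
  exact K_ne_bot_iff hK

/-- Any two `K`-invariant choices of `U` are conjugate in `M`. -/
theorem decomp_U_conj {K' U' : Subgroup G} (hKU : Cfsg.IsSigmaDecomposition M K U)
    (hKU' : Cfsg.IsSigmaDecomposition M K' U') :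
    ∃ m ∈ M, U.map (MulAut.conj m).toMonoidHom = U' := by
  have h := decomp_hall_U hG hM hKU
  have h' := decomp_hall_U hG hM hKU'
  obtain ⟨m, hm, hle⟩ := exists_conj_le_isPiHallOf (minSimple_coatom_solvable hG hM) h.1 h.2.1 h'
  refine ⟨m, hm, le_antisymm hle ?_⟩
  have hk := isPiHallOf_map_conj h m
  rw [map_conj_eq_self_of_mem hm] at hk
  exact le_of_isPiHallOf_le hk hle h'.1 h'.2.1

end Decomp

end CfsgLib.OddOrder.BG16
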