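import Cfsg.Agent.OddOrder.BG16.TypeIIff

/-!
# BG 16: `M_s = M_σ`, and the sets `A(M)`, `A₀(M)` of the types in terms of the standard factorisation
-/

set_option autoImplicit false
set_option linter.style.haveILetI false
set_option linter.unusedSectionVars false

namespace CfsgLib.OddOrder.BG16

open Cfsg Subgroup CfsgLib
open CfsgLib.ConjFunctor (IsSylowIn)

variable {G : Type*} [Group G] [Finite G] {M K U : Subgroup G} {p : ℕ}

/-- `Ẑ`: the elements of `K K*` outside `K ∪ K*`. -/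
def zHat (M K : Subgroup G) : Set G :=
  ((↑(K ⊔ (Cfsg.sigmaCore M ⊓ centralizer (K : Set G))) : Set G) \
    ((K : Set G) ∪ ↑(Cfsg.sigmaCore M ⊓ centralizer (K : Set G))))

section
variable (hG : Cfsg.IsMinSimpleOddOrder G) (hM : IsCoatom M) (F : BG1215Facts G)
include hG hM F

theorem exists_decomp' : ∃ K U : Subgroup G, Cfsg.IsSigmaDecomposition M K U := by
  obtain ⟨K, hK, hKc⟩ := exists_kappa_hall hG hM F
  exact ⟨K, exists_decomp hG hM F hKc hK⟩

theorem fittingHall_eq_or_III_IV (hKU : Cfsg.IsSigmaDecomposition M K U)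
    (h : ¬ (Cfsg.IsOfTypeIII M ∨ Cfsg.IsOfTypeIV M)) :
    Cfsg.fittingHallOf M = Cfsg.sigmaCore M := by
  by_cases hU : U = ⊥
  · by_contra hne
    exact h ((typeIII_IV_iff hG hM F hKU).2
      ⟨fun hK => U_ne_bot_of_K_bot hG hM F hKU hK hU, hU, hne⟩)
  · exact fittingHall_eq_of_U hG hM F hKU hU

/-- `M_s = M_σ`. -/
theorem typeCore_eq : Cfsg.typeCore M = Cfsg.sigmaCore M := by
  obtain ⟨K, U, hKU⟩ := exists_decomp' hG hM F
  rw [Cfsg.typeCore]
  split_ifs with h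
  · obtain ⟨hK, hU, -⟩ := (typeIII_IV_iff hG hM F hKU).1 h
    exact derived_eq_of_U_bot hG hM F hKU hK hU
  · exact fittingHall_eq_or_III_IV hG hM F hKU h

theorem typeA1_eq : Cfsg.typeA1 M = (↑(Cfsg.sigmaCore M) : Set G) \ {1} := by
  rw [Cfsg.typeA1, typeCore_eq hG hM F]

theorem typeA_eq (hKU : Cfsg.IsSigmaDecomposition M K U) :
    supportA M = Cfsg.sigmaA M U \ {1} := by
  ext a
  rw [supportA]
  split_ifs with hI
  · have hK := typeI_K_bot hG hM F hKU hI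
    have hF := fittingHall_eq_of_U hG hM F hKU (U_ne_bot_of_K_bot hG hM F hKU hK)
    have hsup := sup_eq_of_isComplIn (compl_of_K_bot hKU hK)
    simp only [Set.mem_setOf_eq, Set.mem_sdiff, Set.mem_singleton_iff, Cfsg.sigmaA,
      Cfsg.sigmaHat, Set.mem_inter_iff, SetLike.mem_coe, hsup, hF]
    tauto
  · have hK : K ≠ ⊥ := fun hK =>
      hI ((typeI_iff hG hM F hKU).2 ⟨hK, U_ne_bot_of_K_bot hG hM F hKU hK⟩)
    have hD := derived_eq hG hM F hKU hK
    have hle : ∀ x, x ∈ U ⊔ Cfsg.sigmaCore M → x ∈ M :=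
      fun x hx => sup_le (decomp_U_le hKU) (sigmaCore_le M) hx
    simp only [Set.mem_setOf_eq, Set.mem_sdiff, Set.mem_singleton_iff, Cfsg.sigmaA,
      Cfsg.sigmaHat, Set.mem_inter_iff, SetLike.mem_coe, hD, typeCore_eq hG hM F]
    constructor
    · rintro ⟨h1, h2, h3⟩
      exact ⟨⟨⟨hle a h1, h3⟩, h1⟩, h2⟩
    · rintro ⟨⟨⟨-, h3⟩, h1⟩, h2⟩
      exact ⟨h1, h2, h3⟩

/-- Any type `P` data of `M` is conjugate in `M` to `(K, U, K*)`. -/
theorem typeP_data_conj {W₁ V W₂ : Subgroup G} (hKU : Cfsg.IsSigmaDecomposition M K U)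
    (hP : Cfsg.IsTypePWith M W₁ V W₂) :
    K ≠ ⊥ ∧ ∃ m ∈ M, W₁.map (MulAut.conj m).toMonoidHom = K ∧
      W₂.map (MulAut.conj m).toMonoidHom = Cfsg.sigmaCore M ⊓ centralizer (K : Set G) := by
  have hK := K_ne_bot_of_nonempty hKU (kappa_nonempty_of_typeP hG hM hP)
  obtain ⟨U', hP'⟩ := exists_typePWith hG hM F hKU hK
  have hc : Nat.card W₁ = Nat.card K := Nat.eq_of_mul_eq_mul_left Nat.card_pos
    ((compl_card hP.W₁_compl).trans (compl_card hP'.W₁_compl).symm)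
  obtain ⟨m, hm, hle⟩ := exists_conj_le_isPiHallOf (minSimple_coatom_solvable hG hM)
    hP.W₁_compl.2.1 (fun r hr hd => hKU.hall.2.1 r hr (hc ▸ hd)) hKU.hall
  have hW₁ : W₁.map (MulAut.conj m).toMonoidHom = K :=
    eq_of_le_of_card_ge hle (by rw [card_map_conj, hc])
  refine ⟨hK, m, hm, hW₁, ?_⟩
  obtain ⟨⟨x, hx⟩, hx1⟩ := ne_bot_iff_exists_ne_one.1 hP.W₁_ne
  have hx1' : x ≠ 1 := fun h => hx1 (Subtype.ext h)
  have h1 := congrArg (Subgroup.map (MulAut.conj m).toMonoidHom) (hP.W₂_centralizer x hx hx1')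
  rw [map_inf _ _ _ (MulAut.conj m).injective, map_commutator, map_conj_eq_self_of_mem hm,
    map_conj_centralizer, Set.image_singleton] at h1
  rw [← h1]
  exact hP'.W₂_centralizer _ (hW₁ ▸ mem_map_of_mem _ hx) fun h => hx1' (conj_eq_one_iff.1 h)

/-- `A₀(M) \ A(M)` consists of conjugates of elements of `Ẑ`. -/
theorem typeA0_diff (hKU : Cfsg.IsSigmaDecomposition M K U) {x : G} (hx : x ∈ supportA0 M)
    (hxA : x ∉ supportA M) :
    K ≠ ⊥ ∧ ∃ m ∈ M, ∃ z ∈ zHat M K, x = m * z * m⁻¹ := by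
  rcases hx with h | ⟨-, W₁, V, W₂, hP, m₀, hm₀, w, hw, hw1, hw2, rfl⟩
  · exact absurd h hxA
  obtain ⟨hK, m, hm, h1, h2⟩ := typeP_data_conj hG hM F hKU hP
  refine ⟨hK, m₀ * m⁻¹, mul_mem hm₀ (inv_mem hm), m * w * m⁻¹, ⟨?_, ?_⟩, by group⟩
  · have := mem_map_of_mem (MulAut.conj m).toMonoidHom hw
    rwa [Subgroup.map_sup, h1, h2] at this
  · rintro (h | h)
    · rw [SetLike.mem_coe, ← h1, mem_map_conj_iff] at h
      exact hw1 (by simpa [mul_assoc] using h)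
    · rw [SetLike.mem_coe, ← h2, mem_map_conj_iff] at h
      exact hw2 (by simpa [mul_assoc] using h)

end

end CfsgLib.OddOrder.BG16
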