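import Cfsg.Agent.OddOrder.BG16.Basic

/-!
# BG 16, Theorem A: existence of the standard factorisation and the centralizers of elements of `K`;
the primes of `U` whose elements fix points of `M_σ`
-/

set_option autoImplicit false
set_option linter.style.haveILetI false
set_option linter.unusedSectionVars false

namespace CfsgLib.OddOrder.BG16

open Cfsg Subgroup CfsgLib

variable {G : Type*} [Group G] [Finite G] {M K U : Subgroup G} {p : ℕ}

section
variable (hG : Cfsg.IsMinSimpleOddOrder G) (hM : IsCoatom M)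
include hG hM

theorem exists_kappa_hall (F : BG1215Facts G) :
    ∃ K : Subgroup G, Cfsg.IsPiHallOf (Cfsg.kappa M) K M ∧ IsCyclic K :=
  (exists_isPiHallOf (Cfsg.kappa M) (minSimple_coatom_solvable hG hM)).imp
    fun K hK => ⟨hK, F.kappaCyclic M hM K hK⟩

/-- BG Theorem A: the standard factorisation exists. -/
theorem exists_decomp (F : TauFacts G) (hKc : IsCyclic K)
    (hK : Cfsg.IsPiHallOf (Cfsg.kappa M) K M) : ∃ U, Cfsg.IsSigmaDecomposition M K U := by
  set π : Set ℕ := {q | q.Prime ∧ q ∉ Cfsg.kappa M ∧ q ∉ Cfsg.sigma M} with hπ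
  obtain ⟨U, hU, hn⟩ : ∃ U, Cfsg.IsPiHallOf π U M ∧ K ≤ normalizer (U : Set G) := by
    by_cases hK1 : K = ⊥
    · exact (exists_isPiHallOf π (minSimple_coatom_solvable hG hM)).imp
        fun U h => ⟨h, hK1 ▸ bot_le⟩
    · obtain ⟨U, -, h, hn, -⟩ := (F.kappaStructure M hM K hK hK1).2.1
      exact ⟨U, h, hn⟩
  refine ⟨U, hKc, hK, isComplIn_of_card hU.1 (sup_le hK.1 (sigmaCore_le M)) ?_ ?_, hn⟩
  · refine Coprime.inf_eq_bot_of_coprime (Nat.coprime_of_dvd fun r hr h1 h2 => ?_)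
    rw [card_sup_sigmaCore hK] at h2
    exact (hr.dvd_mul.1 h2).elim (fun h => (hU.2.1 r hr h1).2.1 (hK.2.1 r hr h))
      fun h => (hU.2.1 r hr h1).2.2 (isPiSubgroup_sigmaCore M r hr h)
  · rw [card_sup_sigmaCore hK]
    have hUK : (Nat.card U).Coprime (Nat.card K) := Nat.coprime_of_dvd fun r hr h1 h2 =>
      (hU.2.1 r hr h1).2.1 (hK.2.1 r hr h2)
    have hUS : (Nat.card U).Coprime (Nat.card (Cfsg.sigmaCore M)) :=
      Nat.coprime_of_dvd fun r hr h1 h2 =>
        (hU.2.1 r hr h1).2.2 (isPiSubgroup_sigmaCore M r hr h2)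
    have hKS : (Nat.card K).Coprime (Nat.card (Cfsg.sigmaCore M)) :=
      Nat.coprime_of_dvd fun r hr h1 h2 =>
        (hK.2.1 r hr h1).2.2.1 (isPiSubgroup_sigmaCore M r hr h2)
    have hd1 := hKS.mul_dvd_of_dvd_of_dvd (card_dvd_of_le hK.1) (card_dvd_of_le (sigmaCore_le M))
    have hd2 := (hUK.mul_right hUS).mul_dvd_of_dvd_of_dvd (card_dvd_of_le hU.1) hd1
    obtain ⟨t, ht⟩ := hd2
    suffices t = 1 by rw [ht, this, mul_one]
    refine Nat.eq_one_iff_not_exists_prime_dvd.2 fun r hr hd => ?_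
    have h1 : r ∣ U.relIndex M := by
      have : U.relIndex M = (Nat.card K * Nat.card (Cfsg.sigmaCore M)) * t :=
        Nat.eq_of_mul_eq_mul_left (Nat.card_pos (α := U)) (by rw [card_mul_relIndex hU.1, ht]; ring)
      exact this ▸ hd.mul_left _
    have h2 : r ∣ K.relIndex M := by
      have : K.relIndex M = (Nat.card U * Nat.card (Cfsg.sigmaCore M)) * t :=
        Nat.eq_of_mul_eq_mul_left (Nat.card_pos (α := K)) (by rw [card_mul_relIndex hK.1, ht]; ring)
      exact this ▸ hd.mul_left _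
    have h3 : r ∣ (Cfsg.sigmaCore M).relIndex M := by
      have : (Cfsg.sigmaCore M).relIndex M = (Nat.card U * Nat.card K) * t :=
        Nat.eq_of_mul_eq_mul_left (Nat.card_pos (α := Cfsg.sigmaCore M))
          (by rw [card_mul_relIndex (sigmaCore_le M), ht]; ring)
      exact this ▸ hd.mul_left _
    exact hU.2.2 r hr ⟨hr, fun h => hK.2.2 r hr h h2,
      fun h => (sigmaCore_hall hG hM).2.2 r hr h h3⟩ h1

/-- For `K ≠ 1` and `1 ≠ k ∈ K` one has `C_M(k) = K K*`. -/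
theorem kappa_centralizer (F : TauFacts G) (hKc : IsCyclic K)
    (hK : Cfsg.IsPiHallOf (Cfsg.kappa M) K M) {k : G} (hk : k ∈ K) (hk1 : k ≠ 1) :
    M ⊓ centralizer ({k} : Set G) = K ⊔ (Cfsg.sigmaCore M ⊓ centralizer (K : Set G)) := by
  have hK1 : K ≠ ⊥ := fun h => hk1 (by rwa [h, mem_bot] at hk)
  refine le_antisymm ?_ (sup_le ?_ ?_)
  · obtain ⟨p, y, hp, hy, hyp⟩ := exists_zpow_prime_order hk1
    have hX := ((F.kappaStructure M hM K hK hK1).2.2 (zpowers y)
      (zpowers_le.2 (zpowers_le.2 hk hy)) (by rw [Nat.card_zpowers, hyp]; exact hp)).1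
    refine le_trans (inf_le_inf_left M ?_) hX.le
    refine (centralizer_le_of_mem_zpowers hy).trans ?_
    rw [← centralizer_closure, ← zpowers_eq_closure]
    exact centralizer_le_normalizer _
  · refine le_inf hK.1 fun a ha => ?_
    haveI := hKc
    haveI : IsMulCommutative K := inferInstance
    exact mem_centralizer_singleton_iff.2 (setLike_mul_comm (s := K) ha hk)
  · exact inf_le_inf (sigmaCore_le M) (centralizer_le (Set.singleton_subset_iff.2 hk))

/-- `C_U(k) = 1` for `1 ≠ k ∈ K`. -/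
theorem U_inf_centralizer (F : TauFacts G) (hKU : Cfsg.IsSigmaDecomposition M K U) {k : G}
    (hk : k ∈ K) (hk1 : k ≠ 1) : U ⊓ centralizer ({k} : Set G) = ⊥ := by
  rw [← le_bot_iff, ← hKU.compl.2.2.1]
  refine le_inf inf_le_left ((inf_le_inf_right _ hKU.compl.1).trans ?_)
  rw [kappa_centralizer hG hM F hKU.cyclic hKU.hall hk hk1]
  exact sup_le_sup_left inf_le_left _

/-- `K* ≠ 1`. -/
theorem kstar_ne_bot (F : TauFacts G) (hK : Cfsg.IsPiHallOf (Cfsg.kappa M) K M) :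
    Cfsg.sigmaCore M ⊓ centralizer (K : Set G) ≠ ⊥ := by
  by_cases hK1 : K = ⊥
  · have : centralizer (K : Set G) = ⊤ := by rw [hK1]; simp [centralizer_eq_top_iff_subset]
    rw [this, inf_top_eq]
    exact minSimple_sigmaCore_ne_bot hG hM
  obtain ⟨q, hq⟩ := (K_ne_bot_iff hK).1 hK1
  haveI := Fact.mk hq.1
  obtain ⟨T, hT⟩ := exists_isSylowIn q K
  have hTM : CfsgLib.ConjFunctor.IsSylowIn q T M := by
    refine ⟨hT.le.trans hK.1, hT.isPGroup, fun hd => ?_⟩
    rw [← relIndex_mul_relIndex T K M hT.le hK.1] at hd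
    exact (hq.1.dvd_mul.1 hd).elim hT.not_dvd (hK.2.2 q hq.1 hq)
  set P : Sylow q M := (hT.isPGroup.comap_subtype (K := M)).toSylow
    (show ¬ q ∣ (T.subgroupOf M).index from hTM.not_dvd) with hP
  obtain ⟨-, x, hxP, hx1, y, hy, hy1, hc⟩ := hq.2.2.2 P
  have hxK : (x : G) ∈ K := hT.le hxP
  rw [← (F.kappaStructure M hM K hK hK1).1 x hxK fun h => hx1 (Subtype.ext h)]
  refine ne_bot_iff_exists_ne_one.2 ⟨⟨y, hy, mem_centralizer_singleton_iff.2 hc.symm⟩, ?_⟩
  exact fun h => hy1 (congrArg Subtype.val h)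

omit hM in
/-- A Sylow subgroup for a prime of rank at most one is cyclic. -/
theorem isCyclic_sylow_of_pRankLE_one [Fact p.Prime] (hp : p ∣ Nat.card M)
    (hr : Cfsg.PRankLE p 1 M) (P : Sylow p M) : IsCyclic P := by
  by_contra h
  refine not_pRankLE_one_of_not_isCyclic (G := M) P.isPGroup'
    (minSimple_prime_ne_two_subgroup hG hp) h fun A hA he => ?_
  haveI := hA
  refine le_trans ?_ (hr (A.map (P : Subgroup M).subtype) (isMulCommutative_of_equiv
    (A.equivMapOfInjective _ (P : Subgroup M).subtype_injective) hA) ?_)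
  · rw [card_map_of_injective (P : Subgroup M).subtype_injective]
  · rintro _ ⟨a, ha, rfl⟩
    rw [← map_pow, he a ha, map_one]

/-- An element of prime order outside `σ(M) ∪ κ(M)` fixing a point of `M_σ` gives a prime of `τ₂(M)`. -/
theorem mem_tau2_of_fix [Fact p.Prime] (hs : p ∉ Cfsg.sigma M) (hk : p ∉ Cfsg.kappa M) {x : G}
    (hx : orderOf x = p) (hfix : x ∈ Cfsg.sigmaHat M) : p ∈ Cfsg.tau2 M := by
  have hp : p.Prime := Fact.out
  have hxM : x ∈ M := hfix.1
  have hdM : p ∣ Nat.card M := by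
    rw [← hx, ← Nat.card_zpowers]; exact card_dvd_of_le (zpowers_le.2 hxM)
  refine ⟨hp, hs, pRankLE_two_of_not_mem_sigma hG hM hp hs, fun hr => hk ⟨hp, hdM, hs, fun P => ?_⟩⟩
  refine ⟨isCyclic_sylow_of_pRankLE_one hG hdM hr P, ?_⟩
  have hxp : IsPGroup p (zpowers (⟨x, hxM⟩ : M)) := IsPGroup.iff_card.2 ⟨1, by
    rw [Nat.card_zpowers, pow_one, ← Subgroup.orderOf_coe, hx]⟩
  obtain ⟨S, hS⟩ := hxp.exists_le_sylow
  obtain ⟨g, hg⟩ := MulAction.exists_smul_eq M S P
  have h1 : x ≠ 1 := fun h => hp.ne_one (by rw [← hx, h, orderOf_one])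
  obtain ⟨-, y, hy, hy1, hc⟩ := sigmaHat_conj g.2 hfix
  refine ⟨g * ⟨x, hxM⟩ * g⁻¹, ?_, ?_, y, hy, hy1, by simpa using hc⟩
  · rw [← hg]
    exact ⟨_, hS (mem_zpowers _), rfl⟩
  · exact fun h => h1 (congrArg Subtype.val (conj_eq_one_iff.1 h))

/-- For a prime divisor of `|U|` fixing a point, `p ∈ τ₂(M)`. -/
theorem mem_tau2_of_U (hKU : Cfsg.IsSigmaDecomposition M K U) [Fact p.Prime] {x : G} (hxU : x ∈ U)
    (hx : orderOf x = p) (hfix : x ∈ Cfsg.sigmaHat M) : p ∈ Cfsg.tau2 M := by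
  have hd : p ∣ Nat.card U := by
    rw [← hx, ← Nat.card_zpowers]; exact card_dvd_of_le (zpowers_le.2 hxU)
  obtain ⟨hs, hk⟩ := not_sigma_of_dvd_U hG hM hKU Fact.out hd
  exact mem_tau2_of_fix hG hM hs hk hx hfix

end

end CfsgLib.OddOrder.BG16
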