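import Cfsg.Agent.OddOrder.BG16.TheoremB

/-!
# BG 16, Theorem B (3): a subgroup of `U` of the same exponent acting regularly on `M_σ`
-/

set_option autoImplicit false
set_option linter.style.haveILetI false
set_option linter.unusedSectionVars false

namespace CfsgLib.OddOrder.BG16

open Cfsg Subgroup CfsgLib
open CfsgLib.ConjFunctor (IsSylowIn exists_isSylowIn_ge)

variable {G : Type*} [Group G] [Finite G] {M K U : Subgroup G} {p : ℕ}

/-- In a cyclic group two elements of the same prime order generate each other. -/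
theorem mem_zpowers_of_prime_order [Fact p.Prime] {x y z : G} (hy : y ∈ zpowers x)
    (hz : z ∈ zpowers x) (hyo : orderOf y = p) (hzo : orderOf z = p) : z ∈ zpowers y := by
  haveI : IsCyclic (zpowers x) := inferInstance
  have key : (zpowers y).subgroupOf (zpowers x) = (zpowers z).subgroupOf (zpowers x) := by
    refine eq_of_card_eq_of_isCyclic ?_
    rw [Nat.card_congr (subgroupOfEquivOfLe (zpowers_le.2 hy)).toEquiv,
      Nat.card_congr (subgroupOfEquivOfLe (zpowers_le.2 hz)).toEquiv, Nat.card_zpowers,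
      Nat.card_zpowers, hyo, hzo]
  have h : (⟨z, hz⟩ : zpowers x) ∈ (zpowers z).subgroupOf (zpowers x) :=
    mem_subgroupOf.2 (mem_zpowers z)
  rw [← key] at h
  exact mem_subgroupOf.1 h

section
variable (hG : Cfsg.IsMinSimpleOddOrder G) (hM : IsCoatom M) (F : TauFacts G)
include hG hM F

/-- One prime at a time. -/
theorem exists_regular_primePart (hKU : Cfsg.IsSigmaDecomposition M K U) (hU : IsMulCommutative U)
    [Fact p.Prime] (hp : p ∣ Monoid.exponent U) :
    ∃ x ∈ U, orderOf x = p ^ (Monoid.exponent U).factorization p ∧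
      ∀ y ∈ zpowers x, orderOf y = p → y ∉ Cfsg.sigmaHat M := by
  have hp' : p.Prime := Fact.out
  have he : Monoid.exponent U ≠ 0 := Monoid.exponent_ne_zero_of_finite
  obtain ⟨a, ha⟩ : ∃ a, (Monoid.exponent U).factorization p = a + 1 :=
    ⟨_, (Nat.succ_pred_eq_of_ne_zero (hp'.factorization_pos_of_dvd he hp).ne').symm⟩
  rw [ha]
  obtain ⟨w₀, hw₀⟩ := hp'.exists_orderOf_eq_pow_factorization_exponent U
  rw [ha, ← Subgroup.orderOf_coe] at hw₀
  set z := (w₀ : G) ^ p ^ a with hz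
  have hzo : orderOf z = p := by
    rw [hz, orderOf_pow' _ (pow_pos hp'.pos a).ne', hw₀,
      Nat.gcd_eq_right (pow_dvd_pow p a.le_succ), pow_succ, Nat.mul_div_cancel_left _ (pow_pos hp'.pos a)]
  have hprop : ∀ x : G, orderOf x = p ^ (a + 1) → x ^ p ^ a ∉ Cfsg.sigmaHat M →
      ∀ y ∈ zpowers x, orderOf y = p → y ∉ Cfsg.sigmaHat M := by
    intro x hx hnot y hy hyo hfix
    have hxo : orderOf (x ^ p ^ a) = p := by
      rw [orderOf_pow' _ (pow_pos hp'.pos a).ne', hx, Nat.gcd_eq_right (pow_dvd_pow p a.le_succ),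
        pow_succ, Nat.mul_div_cancel_left _ (pow_pos hp'.pos a)]
    exact hnot (sigmaHat_zpow hfix
      (mem_zpowers_of_prime_order hy (npow_mem_zpowers x _) hyo hxo))
  by_cases hfix : z ∈ Cfsg.sigmaHat M
  swap
  · exact ⟨w₀, w₀.2, hw₀, hprop _ hw₀ hfix⟩
  have hzU : z ∈ U := pow_mem w₀.2 _
  have hτ := mem_tau2_of_U hG hM hKU hzU hzo hfix
  have hd : p ∣ Nat.card U := by
    rw [← hzo, ← Nat.card_zpowers]; exact card_dvd_of_le (zpowers_le.2 hzU)
  obtain ⟨hs, hk⟩ := not_sigma_of_dvd_U hG hM hKU hp' hd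
  obtain ⟨T, hT⟩ := exists_isSylowIn p U
  have hcomm : ∀ u ∈ U, ∀ v ∈ U, u * v = v * u := fun u hu v hv =>
    congrArg Subtype.val (hU.is_comm.comm ⟨u, hu⟩ ⟨v, hv⟩)
  have hTall : ∀ B : Subgroup G, B ≤ U → IsPGroup p B → B ≤ T := by
    intro B hB hBp b hb
    obtain ⟨c, hc, hle⟩ := hT.exists_cj_le hB hBp
    have := hle (mem_map_of_mem _ hb)
    rwa [show (MulAut.conj c).toMonoidHom b = b by
      simp [hcomm c hc b (hB hb)]] at this
  have hTM : IsSylowIn p T M := by
    refine ⟨hT.le.trans (decomp_U_le hKU), hT.isPGroup, fun hd' => ?_⟩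
    rw [← relIndex_mul_relIndex T U M hT.le (decomp_U_le hKU)] at hd'
    exact (hp'.dvd_mul.1 hd').elim hT.not_dvd
      ((decomp_hall_U hG hM hKU).2.2 p hp' ⟨hp', hk, hs⟩)
  obtain ⟨A, hAU, hA, hAc⟩ := exists_plane_le_U hG hM F hKU hτ hk
  have hAT := hTall A hAU (isPGroup_of_isElementaryAbelian hA)
  obtain ⟨-, hsyl, -, -, -, A₁, hA₁A, hA₁c, hA₁⟩ :=
    F.tauTwo M hM p hτ A ⟨hAU.trans (decomp_U_le hKU), hA, hAc⟩
  set P : Sylow p M := (hT.isPGroup.comap_subtype (K := M)).toSylow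
    (show ¬ p ∣ (T.subgroupOf M).index from hTM.not_dvd) with hP
  have hPT : (P : Subgroup M).map M.subtype = T := map_subgroupOf_eq_of_le hTM.le
  obtain ⟨hΩ, hnN⟩ := (hsyl P).2 (hPT.symm ▸ hAT)
  rw [hPT] at hΩ hnN
  have hTexp : ∀ t ∈ T, t ^ p ^ (a + 1) = 1 := by
    intro t ht
    obtain ⟨k, hk⟩ := IsPGroup.iff_orderOf.1 hT.isPGroup ⟨t, ht⟩
    rw [← Subgroup.orderOf_coe] at hk
    have h1 : orderOf t ∣ Monoid.exponent U := by
      have := Monoid.order_dvd_exponent (⟨t, hT.le ht⟩ : U)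
      rwa [← Subgroup.orderOf_coe] at this
    rw [← orderOf_dvd_iff_pow_eq_one, hk]
    exact pow_dvd_pow p (ha ▸ (hp'.pow_dvd_iff_le_factorization he).1 (hk ▸ h1))
  let V : Subgroup G :=
    { carrier := {v | ∃ t ∈ T, t ^ p ^ a = v}
      one_mem' := ⟨1, one_mem _, one_pow _⟩
      mul_mem' := by
        rintro _ _ ⟨s, hs, rfl⟩ ⟨t, ht, rfl⟩
        exact ⟨s * t, mul_mem hs ht, Commute.mul_pow (hcomm s (hT.le hs) t (hT.le ht)) _⟩
      inv_mem' := by
        rintro _ ⟨s, hs, rfl⟩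
        exact ⟨s⁻¹, inv_mem hs, inv_pow _ _⟩ }
  obtain ⟨a₁, ha₁, ha₁1⟩ := BG11.exists_mem_ne_one_of_card hA₁c
  have ha₁not : a₁ ∉ Cfsg.sigmaHat M := fun h => by
    refine (mem_sigmaHat_iff h.1).1 h ?_
    rw [← BG11.centralizer_zpowers, BG11.zpowers_eq_of_card hA₁c ha₁ ha₁1]
    exact hA₁
  by_cases hV : a₁ ∈ V
  · obtain ⟨t, ht, hta⟩ := hV
    have hto : orderOf t = p ^ (a + 1) :=
      orderOf_eq_prime_pow (fun h => ha₁1 (hta.symm.trans h)) (hTexp t ht)
    exact ⟨t, hT.le ht, hto, hprop t hto (hta.symm ▸ ha₁not)⟩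
  exfalso
  have hVA : V ≤ A := by
    rintro _ ⟨t, ht, rfl⟩
    exact (hΩ _ (pow_mem ht _)).1 (by rw [← pow_mul, ← pow_succ, hTexp t ht])
  have hw₀T : (w₀ : G) ∈ T := hTall (zpowers (w₀ : G)) (zpowers_le.2 w₀.2)
    (IsPGroup.of_card (n := a + 1) (by rw [Nat.card_zpowers, hw₀])) (mem_zpowers _)
  have hzV : z ∈ V := ⟨w₀, hw₀T, rfl⟩
  have hz1 : z ≠ 1 := fun h => hp'.ne_one (by rw [← hzo, h, orderOf_one])
  have hVc : Nat.card V = p := BG11.card_eq_of_lt_of_ne_bot hAc
    (lt_of_le_of_ne hVA fun h => hV (h ▸ hA₁A ha₁))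
    fun h => hz1 (mem_bot.1 (h ▸ hzV))
  have hVz := BG11.zpowers_eq_of_card hVc hzV hz1
  refine hnN fun g hg => ?_
  have hgz : g * z * g⁻¹ ∈ zpowers z := by
    rw [hVz]
    exact ⟨g * w₀ * g⁻¹, (mem_normalizer_iff.1 hg w₀).1 hw₀T, conj_pow⟩
  obtain ⟨hCM, huniq⟩ := tau2_elem_unique hG hM F hτ hzo hfix
  have h := huniq _ (isCoatom_map_conj hM g) (by
    refine (centralizer_le_of_mem_zpowers hgz).trans ?_
    rw [show centralizer ({g * z * g⁻¹} : Set G) =
      (centralizer ({z} : Set G)).map (MulAut.conj g).toMonoidHom by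
        rw [map_conj_centralizer, Set.image_singleton]]
    exact map_mono hCM)
  rw [← minSimple_normalizer_coatom hG hM]
  exact map_conj_eq_self_iff.1 h

/-- Theorem B (3). -/
theorem exists_regular_exponent (hKU : Cfsg.IsSigmaDecomposition M K U) :
    ∃ U₀ : Subgroup G, U₀ ≤ U ∧ Monoid.exponent U₀ = Monoid.exponent U ∧
      ∀ u ∈ U₀, u ∈ Cfsg.sigmaHat M → u = 1 := by
  by_cases hK : K = ⊥
  · obtain ⟨-, E₀, h1, h2, h3⟩ :=
      F.regularExponent M hM U (compl_of_K_bot hKU hK) (regular_tau13 hG hM F hKU)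
    refine ⟨E₀, h1, h2, fun u hu hfix => by_contra fun h => ?_⟩
    obtain ⟨-, y, hy, hy1, hc⟩ := hfix
    exact hy1 (mem_bot.1 (h3 u hu h ▸ ⟨hy, mem_centralizer_singleton_iff.2 hc.symm⟩))
  have hU := U_abelian hG hM F hKU hK
  set e := Monoid.exponent U with he
  have key : ∀ s : Finset ℕ, s ⊆ e.primeFactors → ∃ x ∈ U,
      orderOf x = ∏ q ∈ s, q ^ e.factorization q ∧
        ∀ y ∈ zpowers x, (orderOf y).Prime → y ∉ Cfsg.sigmaHat M := by
    intro s
    induction s using Finset.induction_on with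
    | empty =>
      intro _
      refine ⟨1, one_mem _, by simp, fun y hy hp => ?_⟩
      rw [zpowers_one_eq_bot, mem_bot] at hy
      exact absurd hp (by rw [hy, orderOf_one]; exact Nat.not_prime_one)
    | insert q s hqs ih =>
      intro hs
      obtain ⟨x, hxU, hxo, hx⟩ := ih fun r hr => hs (Finset.mem_insert_of_mem hr)
      have hq := hs (Finset.mem_insert_self q s)
      have hqp := Nat.prime_of_mem_primeFactors hq
      haveI := Fact.mk hqp
      obtain ⟨w, hwU, hwo, hw⟩ :=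
        exists_regular_primePart hG hM F hKU hU (Nat.dvd_of_mem_primeFactors hq)
      have hxw : Commute x w := congrArg Subtype.val (hU.is_comm.comm ⟨x, hxU⟩ ⟨w, hwU⟩)
      have hcop : (orderOf x).Coprime (orderOf w) := by
        rw [hxo, hwo]
        refine Nat.Coprime.prod_left fun r hr => ?_
        exact Nat.coprime_pow_primes _ _ (Nat.prime_of_mem_primeFactors
          (hs (Finset.mem_insert_of_mem hr))) hqp fun h => hqs (h ▸ hr)
      refine ⟨x * w, mul_mem hxU hwU, ?_, fun y hy hyp => ?_⟩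
      · rw [hxw.orderOf_mul_eq_mul_orderOf_of_coprime hcop, hxo, hwo, Finset.prod_insert hqs,
          mul_comm]
      obtain ⟨k, rfl⟩ := mem_zpowers_iff.1 hy
      set r := orderOf ((x * w) ^ k) with hr
      have h1 : ((x * w) ^ k) ^ r = 1 := pow_orderOf_eq_one _
      rw [hxw.mul_zpow, (hxw.zpow_zpow k k).mul_pow] at h1
      have h2 : (x ^ k) ^ r ∈ zpowers x ⊓ zpowers w :=
        ⟨pow_mem (zpow_mem (mem_zpowers x) k) r, by
          rw [eq_inv_of_mul_eq_one_left h1]
          exact (zpowers w).inv_mem (pow_mem (zpow_mem (mem_zpowers w) k) r)⟩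
      rw [Coprime.inf_eq_bot_of_coprime (by rwa [Nat.card_zpowers, Nat.card_zpowers]), mem_bot] at h2
      rw [h2, one_mul] at h1
      by_cases hrq : r = q
      · have : x ^ k = 1 := by
          refine orderOf_eq_one_iff.1 (Nat.eq_one_of_dvd_coprimes
            (?_ : (orderOf x).Coprime r) (orderOf_dvd_of_mem_zpowers (zpow_mem (mem_zpowers x) k))
            (orderOf_dvd_of_pow_eq_one h2))
          rw [hrq, hxo]
          refine Nat.Coprime.prod_left fun t ht => Nat.Coprime.pow_left _ ?_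
          exact (Nat.coprime_primes (Nat.prime_of_mem_primeFactors
            (hs (Finset.mem_insert_of_mem ht))) hqp).2 fun h => hqs (h ▸ ht)
        rw [hxw.mul_zpow, this, one_mul] at hr ⊢
        exact hw _ (zpow_mem (mem_zpowers w) k) (hr.symm.trans hrq)
      · have : w ^ k = 1 := by
          refine orderOf_eq_one_iff.1 (Nat.eq_one_of_dvd_coprimes
            (?_ : (orderOf w).Coprime r) (orderOf_dvd_of_mem_zpowers (zpow_mem (mem_zpowers w) k))
            (orderOf_dvd_of_pow_eq_one h1))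
          rw [hwo]
          exact Nat.Coprime.pow_left _ ((Nat.coprime_primes hqp hyp).2 (Ne.symm hrq))
        rw [hxw.mul_zpow, this, mul_one] at hr ⊢
        exact hx _ (zpow_mem (mem_zpowers x) k) (hr ▸ hyp)
  obtain ⟨x, hxU, hxo, hx⟩ := key e.primeFactors subset_rfl
  have he0 : e ≠ 0 := Monoid.exponent_ne_zero_of_finite
  have hxe : orderOf x = e := by
    rw [hxo]
    exact (Nat.prod_factorization_pow_eq_self he0 :)
  refine ⟨zpowers x, zpowers_le.2 hxU, ?_, fun u hu hfix => by_contra fun h => ?_⟩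
  · rw [IsCyclic.exponent_eq_card, Nat.card_zpowers, hxe]
  · obtain ⟨r, y, hr, hy, hyr⟩ := exists_zpow_prime_order h
    exact hx y (zpowers_le.2 hu hy) (hyr ▸ hr) (sigmaHat_zpow hfix hy)

end

end CfsgLib.OddOrder.BG16
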