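import Cfsg.Agent.OddOrder.BG16.TheoremB
import Cfsg.Agent.Coprime.Abelian
import Cfsg.Agent.Coprime.Action
import Cfsg.Agent.OddOrder.BG13.Basic

/-!
# BG 16, Theorem C (1)-(3)
-/

set_option autoImplicit false
set_option linter.style.haveILetI false
set_option linter.unusedSectionVars false

namespace CfsgLib.OddOrder.BG16

open Cfsg Subgroup CfsgLib
open CfsgLib.ConjFunctor (IsSylowIn)
open scoped commutatorElement

/-- If `Y = NK` with `N = Y'` normal, `K` abelian of order prime to `|N|`, then `C_N(K) ≤ N'`. -/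
theorem inf_centralizer_le_derived {Y : Type*} [Group Y] [Finite Y] {N K : Subgroup Y} [N.Normal]
    (hK : IsMulCommutative K) (hcop : (Nat.card K).Coprime (Nat.card N)) (hNK : N ⊔ K = ⊤)
    (hN : commutator Y = N) : N ⊓ centralizer (K : Set Y) ≤ ⁅N, N⁆ := by
  set f := QuotientGroup.mk' (⁅N, N⁆ : Subgroup Y) with hf
  set V := N.map f with hV
  set A := K.map f with hA
  have hVab : IsMulCommutative V := by
    have h : ⁅V, V⁆ = ⊥ := by
      rw [hV, ← map_commutator, Subgroup.map_eq_bot_iff, hf, QuotientGroup.ker_mk']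
    exact le_centralizer_iff_isMulCommutative.1 (commutator_eq_bot_iff_le_centralizer.1 h)
  have hAab : ∀ a ∈ A, ∀ b ∈ A, a * b = b * a := by
    rintro _ ⟨a, ha, rfl⟩ _ ⟨b, hb, rfl⟩
    rw [← map_mul, ← map_mul]
    exact congrArg f (congrArg Subtype.val (hK.is_comm.comm ⟨a, ha⟩ ⟨b, hb⟩) :)
  haveI := hVab
  haveI hVn : V.Normal := (inferInstance : N.Normal).map f (QuotientGroup.mk'_surjective _)
  have htop : V ⊔ A = ⊤ := by
    rw [hV, hA, ← Subgroup.map_sup, hNK, map_top_of_surjective f (QuotientGroup.mk'_surjective _)]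
  set W := ⁅V, A⁆ with hW
  haveI hWn : W.Normal := normalizer_eq_top_iff.1
    (top_le_iff.1 (htop ▸ Coprime.sup_le_normalizer_commutator V A))
  have hcopV : (Nat.card A).Coprime (Nat.card V) :=
    Nat.Coprime.of_dvd (card_map_dvd _ _) (card_map_dvd _ _) hcop
  have hder : commutator (Y ⧸ (⁅N, N⁆ : Subgroup Y)) ≤ W := by
    set g := QuotientGroup.mk' W with hg
    rw [_root_.commutator_def, commutator_le]
    intro x _ y _
    rw [← QuotientGroup.eq_one_iff (N := W), ← QuotientGroup.mk'_apply, ← hg,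
      map_commutatorElement, commutatorElement_eq_one_iff_mul_comm]
    have hVA : ∀ v ∈ V, ∀ a ∈ A, Commute (g v) (g a) := fun v hv a ha => by
      rw [← commutatorElement_eq_one_iff_commute, ← map_commutatorElement, hg,
        QuotientGroup.mk'_apply, QuotientGroup.eq_one_iff]
      exact commutator_mem_commutator hv ha
    have key : ∀ z, ∃ v ∈ V, ∃ a ∈ A, v * a = z := fun z =>
      Coprime.exists_mul_of_mem_sup (N := V) (H := A) (by rw [normalizer_eq_top]; exact le_top)
        (htop ▸ mem_top z)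
    obtain ⟨v, hv, a, ha, rfl⟩ := key x
    obtain ⟨w, hw, b, hb, rfl⟩ := key y
    have hvw : Commute (g v) (g w) := by
      have h : v * w = w * v := congrArg Subtype.val (hVab.is_comm.comm ⟨v, hv⟩ ⟨w, hw⟩)
      show g v * g w = g w * g v
      rw [← map_mul, ← map_mul, h]
    have hab : Commute (g a) (g b) := by
      show g a * g b = g b * g a
      rw [← map_mul, ← map_mul, hAab a ha b hb]
    rw [map_mul, map_mul]
    exact ((hvw.mul_right (hVA v hv b hb)).mul_left
      ((hVA w hw a ha).symm.mul_right hab)).eq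
  have hVW : V ≤ W := by
    refine le_trans ?_ hder
    have h1 : (commutator Y).map f ≤ commutator (Y ⧸ (⁅N, N⁆ : Subgroup Y)) := by
      rw [_root_.commutator_def, _root_.commutator_def, map_commutator]
      exact commutator_mono le_top le_top
    exact hV ▸ le_trans (map_mono hN.ge) h1
  intro c hc
  have h : f c ∈ (V ⊓ centralizer (A : Set (Y ⧸ (⁅N, N⁆ : Subgroup Y)))) ⊓ W := by
    refine ⟨⟨mem_map_of_mem f hc.1, mem_centralizer_iff.2 ?_⟩, hVW (mem_map_of_mem f hc.1)⟩
    rintro _ ⟨k, hk, rfl⟩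
    rw [← map_mul, ← map_mul, mem_centralizer_iff.1 hc.2 k hk]
  rw [hW, Coprime.inf_centralizer_inf_commutator_eq_bot
    (by rw [normalizer_eq_top]; exact le_top) hcopV, mem_bot, hf, QuotientGroup.mk'_apply,
    QuotientGroup.eq_one_iff] at h
  exact h

variable {G : Type*} [Group G] [Finite G] {M K U : Subgroup G} {p : ℕ}

section
variable (hG : Cfsg.IsMinSimpleOddOrder G) (hM : IsCoatom M) (F : BG1215Facts G)
include hG hM F

/-- Theorem C (1): `N_G(U)` is not contained in `M`. -/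
theorem not_normalizer_U_le (hKU : Cfsg.IsSigmaDecomposition M K U) (hK : K ≠ ⊥) :
    ¬ normalizer (U : Set G) ≤ M := by
  intro h
  by_cases hU : U = ⊥
  · refine hM.1 (top_le_iff.1 (le_trans ?_ h))
    rw [hU]
    exact (normalizer_eq_top (H := (⊥ : Subgroup G))).ge
  obtain ⟨Ms, ⟨hMs, hKs, hKsH⟩, -⟩ := F.starExists M hM K U hKU hK
  obtain ⟨r, hr, hd⟩ := Nat.exists_prime_and_dvd (U.one_lt_card_iff_ne_bot.2 hU).ne'
  haveI := Fact.mk hr
  obtain ⟨R⟩ : Nonempty (Sylow r U) := inferInstance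
  set R' := (R : Subgroup U).map U.subtype with hR'
  have hR1 : R' ≠ ⊥ := fun h' =>
    R.ne_bot_of_dvd_card hd ((map_eq_bot_iff_of_injective _ U.subtype_injective).1 h')
  have hRtop : R' ≠ ⊤ := minSimple_ne_top_of_isPGroup hG (R.isPGroup'.map _)
  obtain ⟨H, hH, hle⟩ := minSimple_exists_coatom hG (minSimple_normalizer_ne_top hG hR1 hRtop)
  exact (F.typePU M hM K U hKU hK hU Ms hMs hKs hKsH r hd R H hH hle).2.2.2.1
    (inf_le_right.trans h)

end

section
variable (hG : Cfsg.IsMinSimpleOddOrder G) (hM : IsCoatom M) (F : TauFacts G)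
include hG hM F

/-- Theorem C (3): `M' = U M_σ`. -/
theorem derived_eq (hKU : Cfsg.IsSigmaDecomposition M K U) (hK : K ≠ ⊥) :
    ⁅M, M⁆ = U ⊔ Cfsg.sigmaCore M := by
  refine le_antisymm ?_ (sup_le ?_ (sigmaCore_le_commutator hG hM))
  · have hsup : M = (U ⊔ Cfsg.sigmaCore M) ⊔ K := by
      conv_lhs => rw [← sup_eq_of_isComplIn hKU.compl]
      ac_rfl
    have hKK : ⁅K, K⁆ = ⊥ := by
      haveI := hKU.cyclic
      exact commutator_eq_bot_iff_le_centralizer.2
        (le_centralizer_iff_isMulCommutative.2 inferInstance)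
    simpa [hKK] using BG13.commutator_le_sup_commutator (le_normalizer_U_sup hKU) hsup
  · haveI := U_abelian hG hM F hKU hK
    obtain ⟨⟨k, hk⟩, hk1⟩ := ne_bot_iff_exists_ne_one.1 hK
    have hcop : (Nat.card K).Coprime (Nat.card U) := Nat.coprime_of_dvd fun r hr h1 h2 =>
      (not_sigma_of_dvd_U hG hM hKU hr h2).2 (hKU.hall.2.1 r hr h1)
    have hfix : U ⊓ centralizer (K : Set G) = ⊥ := by
      refine le_bot_iff.1 ((inf_le_inf_left U (centralizer_le (Set.singleton_subset_iff.2 hk))).trans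
        (le_of_eq ?_))
      exact U_inf_centralizer hG hM F hKU hk fun h => hk1 (Subtype.ext h)
    calc U = (U ⊓ centralizer (K : Set G)) ⊔ ⁅U, K⁆ :=
          (Coprime.inf_centralizer_sup_commutator_eq hKU.normal hcop).symm
      _ ≤ ⁅M, M⁆ := by
          rw [hfix, bot_sup_eq]; exact commutator_mono (decomp_U_le hKU) (decomp_K_le hKU)

omit F in
theorem coprime_K_derived (hKU : Cfsg.IsSigmaDecomposition M K U) :
    (Nat.card K).Coprime (Nat.card U * Nat.card (Cfsg.sigmaCore M)) :=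
  Nat.coprime_of_dvd fun r hr h1 h2 =>
    (hr.dvd_mul.1 h2).elim (fun h => (not_sigma_of_dvd_U hG hM hKU hr h).2 (hKU.hall.2.1 r hr h1))
      fun h => (hKU.hall.2.1 r hr h1).2.2.1 (isPiSubgroup_sigmaCore M r hr h)

theorem card_derived (hKU : Cfsg.IsSigmaDecomposition M K U) (hK : K ≠ ⊥) :
    Nat.card ↥⁅M, M⁆ = Nat.card U * Nat.card (Cfsg.sigmaCore M) := by
  rw [derived_eq hG hM F hKU hK, sup_comm, Coprime.card_sup_eq
    ((decomp_U_le hKU).trans (le_normalizer_sigmaCore M)), mul_comm]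
  refine Coprime.inf_eq_bot_of_coprime (Nat.coprime_of_dvd fun r hr h1 h2 => ?_)
  exact (not_sigma_of_dvd_U hG hM hKU hr h2).1 (isPiSubgroup_sigmaCore M r hr h1)

/-- Theorem C (3): `K* ≤ M''`. -/
theorem kstar_le_derived_two (hKU : Cfsg.IsSigmaDecomposition M K U) (hK : K ≠ ⊥) :
    Cfsg.sigmaCore M ⊓ centralizer (K : Set G) ≤ ⁅⁅M, M⁆, ⁅M, M⁆⁆ := by
  have hDM : ⁅M, M⁆ ≤ M := commutator_le_self M
  set N := (⁅M, M⁆).subgroupOf M with hN
  have hNmap : N.map M.subtype = ⁅M, M⁆ := map_subgroupOf_eq_of_le hDM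
  have hNc : N = commutator ↥M :=
    map_injective M.subtype_injective (hNmap.trans (map_subtype_commutator M).symm)
  haveI : N.Normal := by rw [hNc]; infer_instance
  have hKab : IsMulCommutative (K.subgroupOf M) := by
    haveI := hKU.cyclic
    exact isMulCommutative_of_equiv (subgroupOfEquivOfLe (decomp_K_le hKU)).symm inferInstance
  have hcop : (Nat.card (K.subgroupOf M)).Coprime (Nat.card N) := by
    rw [Nat.card_congr (subgroupOfEquivOfLe (decomp_K_le hKU)).toEquiv,
      Nat.card_congr (subgroupOfEquivOfLe hDM).toEquiv, card_derived hG hM F hKU hK]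
    exact coprime_K_derived hG hM hKU
  have htop : N ⊔ K.subgroupOf M = ⊤ := by
    refine map_injective M.subtype_injective ?_
    rw [Subgroup.map_sup, hNmap, map_subgroupOf_eq_of_le (decomp_K_le hKU), ← MonoidHom.range_eq_map,
      range_subtype, derived_eq hG hM F hKU hK]
    conv_rhs => rw [← sup_eq_of_isComplIn hKU.compl]
    ac_rfl
  intro c hc
  have h := inf_centralizer_le_derived hKab hcop htop hNc.symm
    (x := ⟨c, sigmaCore_le M hc.1⟩) ⟨mem_subgroupOf.2 (sigmaCore_le_commutator hG hM hc.1),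
      mem_centralizer_iff.2 fun k hk => Subtype.ext (mem_centralizer_iff.1 hc.2 k hk)⟩
  have h' := mem_map_of_mem M.subtype h
  rwa [map_commutator, hNmap] at h'

end

section
variable (hG : Cfsg.IsMinSimpleOddOrder G) (hM : IsCoatom M) (F : BG1215Facts G)
include hG hM F

/-- Theorem C (2): `K*` is cyclic. -/
theorem kstar_cyclic (hKU : Cfsg.IsSigmaDecomposition M K U) (hK : K ≠ ⊥) :
    IsCyclic ↥(Cfsg.sigmaCore M ⊓ centralizer (K : Set G)) := by
  obtain ⟨Ms, ⟨hMs, hKs, hKsH⟩, -⟩ := F.starExists M hM K U hKU hK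
  haveI := (F.starInter M hM K U hKU hK Ms hMs hKs hKsH).2
  exact Subgroup.isCyclic_of_le (le_sup_right :
    Cfsg.sigmaCore M ⊓ centralizer (K : Set G) ≤ K ⊔ (Cfsg.sigmaCore M ⊓ centralizer (K : Set G)))

/-- Theorem C (2): `K* ≤ M_F`. -/
theorem kstar_le_fittingHall (hKU : Cfsg.IsSigmaDecomposition M K U) :
    Cfsg.sigmaCore M ⊓ centralizer (K : Set G) ≤ Cfsg.fittingHallOf M := by
  by_cases hne : Cfsg.fittingHallOf M = Cfsg.sigmaCore M
  · rw [hne]; exact inf_le_left
  obtain ⟨-, -, -, hq, hqd, -⟩ := F.coreNeStructure M hM K U hKU hne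
  refine le_fittingHallOf_of_primes (inf_le_left.trans (sigmaCore_le M)) fun r hr hd => ?_
  rwa [(Nat.prime_dvd_prime_iff_eq hr hq).1 hd]

/-- Theorem C (2): `M_F` is not cyclic. -/
theorem fittingHall_not_cyclic (hKU : Cfsg.IsSigmaDecomposition M K U) (hK : K ≠ ⊥) :
    ¬ IsCyclic (Cfsg.fittingHallOf M) := by
  intro hc
  haveI := hc
  have hne : Cfsg.fittingHallOf M ≤ M := fittingHallOf_le M
  -- the automorphisms of a cyclic group commute, so `M' ≤ C(M_F)`
  have hder : ⁅M, M⁆ ≤ centralizer (Cfsg.fittingHallOf M : Set G) := by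
    rw [commutator_le]
    intro a ha b hb
    obtain ⟨z, hz⟩ := IsCyclic.exists_generator (α := Cfsg.fittingHallOf M)
    refine mem_centralizer_iff.2 fun h hh => ?_
    obtain ⟨n, hn⟩ := mem_zpowers_iff.1 (hz ⟨h, hh⟩)
    have hn' : (z : G) ^ n = h := congrArg Subtype.val hn
    have act : ∀ c ∈ M, ∃ k : ℤ, c * z * c⁻¹ = (z : G) ^ k := by
      intro c hcM
      obtain ⟨k, hk⟩ := mem_zpowers_iff.1
        (hz ⟨_, (mem_normalizer_iff.1 (le_normalizer_fittingHallOf M hcM) (z : G)).1 z.2⟩)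
      exact ⟨k, (congrArg Subtype.val hk).symm⟩
    have hswap : ∀ c d : G, c ∈ M → d ∈ M → c * (d * z * d⁻¹) * c⁻¹ = d * (c * z * c⁻¹) * d⁻¹ := by
      intro c d hcM hdM
      obtain ⟨i, hi⟩ := act c hcM
      obtain ⟨j, hj⟩ := act d hdM
      rw [hj, hi, ← conj_zpow, hi, ← conj_zpow, hj, ← zpow_mul, ← zpow_mul, mul_comm]
    have e := hswap a b ha hb
    have hfix : ⁅a, b⁆ * z * ⁅a, b⁆⁻¹ = z := by
      have e2 := hswap a⁻¹ b⁻¹ (inv_mem ha) (inv_mem hb)
      simp only [inv_inv] at e2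
      calc ⁅a, b⁆ * (z : G) * ⁅a, b⁆⁻¹
          = a * (b * (a⁻¹ * (b⁻¹ * z * b) * a) * b⁻¹) * a⁻¹ := by
            rw [commutatorElement_def]; group
        _ = a * (b * (b⁻¹ * (a⁻¹ * z * a) * b) * b⁻¹) * a⁻¹ := by rw [e2]
        _ = z := by group
    have : Commute ⁅a, b⁆ (z : G) := mul_inv_eq_iff_eq_mul.1 hfix
    rw [← hn']
    exact (this.zpow_right n).symm.eq
  obtain ⟨-, hFeq, hFle⟩ := F.fittingEq M hM
  have hsub : ⁅M, M⁆ ≤ Cfsg.fittingOf M := by
    rw [hFeq]; exact le_trans (le_inf (commutator_le_self M) hder) le_sup_left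
  have hnil : Group.IsNilpotent (Cfsg.sigmaCore M) :=
    isNilpotent_of_le ((sigmaCore_le_commutator hG hM).trans hsub) (isNilpotent_fittingOf M)
  have heq := fittingHallOf_eq_sigmaCore hG hM (sigmaCore_hall hG hM) hnil
  -- so `M' = U × M_σ` is abelian, against `1 ≠ K* ≤ M''`
  rw [heq] at hder
  have hUab := U_abelian hG hM F hKU hK
  have hUd : U ≤ ⁅M, M⁆ := le_sup_left.trans (derived_eq hG hM F hKU hK).ge
  have habel : ⁅M, M⁆ ≤ centralizer ((⁅M, M⁆ : Subgroup G) : Set G) := by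
    have hU' : ⁅M, M⁆ ≤ centralizer (U : Set G) := by
      rw [derived_eq hG hM F hKU hK]
      exact sup_le (le_centralizer_iff_isMulCommutative.2 hUab)
        (le_centralizer_iff.1 (hUd.trans hder))
    calc ⁅M, M⁆ = U ⊔ Cfsg.sigmaCore M := derived_eq hG hM F hKU hK
      _ ≤ _ := sup_le (le_centralizer_iff.1 hU') (le_centralizer_iff.1 hder)
  refine kstar_ne_bot hG hM F hKU.hall (le_bot_iff.1 ?_)
  refine (kstar_le_derived_two hG hM F hKU hK).trans (le_of_eq ?_)
  exact commutator_eq_bot_iff_le_centralizer.2 habel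

end

end CfsgLib.OddOrder.BG16
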