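import Cfsg.Agent.OddOrder.BG16.TypeP

/-!
# BG 16: a maximal subgroup is of type I if and only if `K = 1`
-/

set_option autoImplicit false
set_option linter.style.haveILetI false
set_option linter.unusedSectionVars false

namespace CfsgLib.OddOrder.BG16

open Cfsg Subgroup CfsgLib
open CfsgLib.ConjFunctor (IsSylowIn)

variable {G : Type*} [Group G] [Finite G] {M K U : Subgroup G} {p : ℕ}

section
variable (hG : Cfsg.IsMinSimpleOddOrder G) (hM : IsCoatom M) (F : BG1215Facts G)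
include hG hM F

omit F in
/-- An element of `M` of prime order in `κ(M)` centralizes a nontrivial element of `M_σ ∩ C(K)^m`. -/
theorem kappa_element_fix (F : BG1215Facts G) (hK : Cfsg.IsPiHallOf (Cfsg.kappa M) K M) {r : ℕ}
    (hr : r ∈ Cfsg.kappa M) {u : G} (huM : u ∈ M) (hu : orderOf u = r) :
    ∃ m ∈ M, ∀ y ∈ Cfsg.sigmaCore M ⊓ centralizer (K : Set G), Commute u (m⁻¹ * y * m) := by
  haveI := Fact.mk hr.1
  obtain ⟨m, hm, hle⟩ := exists_conj_le_isPiHallOf (minSimple_coatom_solvable hG hM)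
    (zpowers_le.2 huM) (isPiSubgroup_of_isPGroup
      (IsPGroup.of_card (n := 1) (by rw [Nat.card_zpowers, hu, pow_one])) hr) hK
  refine ⟨m, hm, fun y hy => ?_⟩
  have h : m * u * m⁻¹ * y = y * (m * u * m⁻¹) :=
    mem_centralizer_iff.1 hy.2 _ (hle (mem_map_of_mem _ (mem_zpowers u)))
  show u * (m⁻¹ * y * m) = m⁻¹ * y * m * u
  calc u * (m⁻¹ * y * m) = m⁻¹ * (m * u * m⁻¹ * y) * m := by group
    _ = m⁻¹ * (y * (m * u * m⁻¹)) * m := by rw [h]
    _ = m⁻¹ * y * m * u := by group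

theorem typeI_K_bot (hKU : Cfsg.IsSigmaDecomposition M K U) (h : IsTypeI M) : K = ⊥ := by
  obtain ⟨⟨-, -, -, -, U', -, hU'c, -, U₀, hU₀, hexp, hfpf⟩, -⟩ := h
  by_contra hK
  obtain ⟨r, hr⟩ := (K_ne_bot_iff hKU.hall).1 hK
  haveI := Fact.mk hr.1
  have hrH : ¬ r ∣ Nat.card (Cfsg.fittingHallOf M) := fun h' => hr.2.2.1
    (isPiSubgroup_sigmaCore M r hr.1 (h'.trans (card_dvd_of_le (fittingHallOf_le_sigmaCore hG hM))))
  have hrU : r ∣ Nat.card U' := by
    have h' := hr.2.1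
    rw [← hU'c.card_mul_card] at h'
    refine (hr.1.dvd_mul.1 h').resolve_left fun h'' => hrH ?_
    rwa [Cfsg.fittingHallOf, card_map_of_injective M.subtype_injective]
  obtain ⟨w, hw⟩ := exists_prime_orderOf_dvd_card' r hrU
  have hrU₀ : r ∣ Nat.card U₀ := by
    refine (hexp.symm ▸ (hw ▸ Monoid.order_dvd_exponent w) : r ∣ Monoid.exponent U₀).trans ?_
    exact Group.exponent_dvd_nat_card
  obtain ⟨u, hu⟩ := exists_prime_orderOf_dvd_card' r hrU₀
  rw [← Subgroup.orderOf_coe, ← Subgroup.orderOf_coe] at hu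
  obtain ⟨m, hm, hc⟩ := kappa_element_fix hG hM F hKU.hall hr ((u : ↥U₀) : M).2 hu
  obtain ⟨⟨y, hy⟩, hy1⟩ := ne_bot_iff_exists_ne_one.1 (kstar_ne_bot hG hM F hKU.hall)
  have hyF : m⁻¹ * y * m ∈ Cfsg.fittingHallOf M := by
    simpa using (mem_normalizer_iff.1 (le_normalizer_fittingHallOf M (inv_mem hm)) y).1
      (kstar_le_fittingHall hG hM F hKU hy)
  obtain ⟨x, hx, hxe⟩ := hyF
  have hu1 : (u : ↥U₀) ≠ 1 := fun h' => hr.1.ne_one (by
    rw [← hu, h']; simp)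
  have hx1 := hfpf u u.2 (fun h' => hu1 (Subtype.ext h')) x hx (Subtype.ext (by
    show ((u : ↥M) : G) * (x : G) = (x : G) * ((u : ↥M) : G)
    rw [show (x : G) = m⁻¹ * y * m from hxe]
    exact (hc y hy).eq))
  refine hy1 (Subtype.ext ?_)
  rw [hx1] at hxe
  have : y = 1 := by
    have h2 : m * (m⁻¹ * y * m) * m⁻¹ = y := by group
    rw [← h2, ← hxe]; simp
  exact this

theorem U_ne_bot_of_K_bot (hKU : Cfsg.IsSigmaDecomposition M K U) (hK : K = ⊥) : U ≠ ⊥ := by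
  intro hU
  obtain ⟨-, -, h1, h2, -⟩ := F.fittingChain M hM
  have hMS : M ≤ Cfsg.sigmaCore M := by
    conv_lhs => rw [← sup_eq_of_isComplIn (compl_of_K_bot hKU hK), hU, bot_sup_eq]
  exact h2.not_ge (hMS.trans h1)

theorem typeI_of (hKU : Cfsg.IsSigmaDecomposition M K U) (hK : K = ⊥) (hU : U ≠ ⊥) :
    IsTypeI M := by
  have hF := fittingHall_eq_of_U hG hM F hKU hU
  have hc := compl_of_K_bot hKU hK
  have hcF : Nat.card (Cfsg.fittingHall ↥M) = Nat.card (Cfsg.sigmaCore M) := by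
    rw [← hF, Cfsg.fittingHallOf, card_map_of_injective M.subtype_injective]
  have hcU : Nat.card (U.subgroupOf M) = Nat.card U :=
    Nat.card_congr (subgroupOfEquivOfLe hc.1).toEquiv
  refine ⟨⟨minSimple_coatom_solvable hG hM, minSimple_odd_subgroup hG M, fun h => ?_, fun h => ?_,
    U.subgroupOf M, ?_, ?_, ?_, ?_⟩, ?_⟩
  · exact minSimple_sigmaCore_ne_bot hG hM (by rw [← hF, Cfsg.fittingHallOf, h, Subgroup.map_bot])
  · rw [h, card_top, ← compl_card hc] at hcF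
    exact hU (card_eq_one.1 ((Nat.mul_eq_right Nat.card_pos.ne').1 hcF))
  · exact fun h => hU (le_bot_iff.1 (by rw [← map_subgroupOf_eq_of_le hc.1, h, Subgroup.map_bot]))
  · refine isComplement'_of_card_mul_and_disjoint ?_ ?_
    · rw [hcF, hcU, ← compl_card hc, mul_comm]
    · rw [disjoint_iff, eq_bot_iff]
      intro x hx
      have h2 : (x : G) ∈ U ⊓ Cfsg.sigmaCore M := ⟨hx.2, hF ▸ ⟨x, hx.1, rfl⟩⟩
      rw [hc.2.2.1, mem_bot] at h2
      exact mem_bot.2 (Subtype.ext h2)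
  · obtain ⟨A₀, h1, h2, h3, h4⟩ := exists_A0 hG hM F hKU
    refine ⟨A₀.subgroupOf M, fun x hx => mem_subgroupOf.2 (h1 (mem_subgroupOf.1 hx)), ?_,
      isMulCommutative_of_equiv (subgroupOfEquivOfLe (h1.trans hc.1)).symm h3, ?_⟩
    · intro x hx
      refine mem_normalizer_iff.2 fun y => ?_
      rw [mem_subgroupOf, mem_subgroupOf]
      exact mem_normalizer_iff.1 (h2 (mem_subgroupOf.1 hx)) (y : G)
    · intro x hx hx1 u hu
      exact mem_subgroupOf.2 (h4 u (mem_subgroupOf.1 hu.1) ⟨u.2, x, hF ▸ ⟨x, hx, rfl⟩,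
        fun h => hx1 (Subtype.ext h), congrArg Subtype.val (mem_centralizer_singleton_iff.1 hu.2)⟩)
  · obtain ⟨U₀, h1, h2, h3⟩ := exists_regular_exponent hG hM F hKU
    refine ⟨U₀.subgroupOf M, fun x hx => mem_subgroupOf.2 (h1 (mem_subgroupOf.1 hx)), ?_,
      fun u hu hu1 x hx hcx => by_contra fun hx1 => hu1 (Subtype.ext ?_)⟩
    · rw [Monoid.exponent_eq_of_mulEquiv (subgroupOfEquivOfLe (h1.trans hc.1)),
        Monoid.exponent_eq_of_mulEquiv (subgroupOfEquivOfLe hc.1), h2]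
    · exact h3 u hu ⟨u.2, x, hF ▸ ⟨x, hx, rfl⟩, fun h => hx1 (Subtype.ext h),
        congrArg Subtype.val hcx⟩
  by_cases hTI : Cfsg.IsTISubset (Cfsg.fittingHallOf M : Set G)
  · exact Or.inl hTI
  obtain ⟨g, hg, hX⟩ := exists_fitting_inter hG hM F hTI
  obtain ⟨-, -, hcases⟩ := F.fittingNotTI M hM K U hKU g hg hX
  rcases hcases with
    ⟨-, hab, hr2, hr1⟩ | ⟨p, hp, hXp, hps, -, hnc, hcyc, hexp⟩ | ⟨p, -, -, -, -, -, -, -, hK', -⟩
  · exact Or.inr (Or.inl ⟨hab, hr2, hr1⟩)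
  · exact Or.inr (Or.inr ⟨hexp, p, hp, dvd_card_of_pCore_nonabelian hp hnc, hcyc⟩)
  · exact absurd hK hK'

/-- Type I. -/
theorem typeI_iff (hKU : Cfsg.IsSigmaDecomposition M K U) :
    IsTypeI M ↔ (K = ⊥ ∧ U ≠ ⊥) :=
  ⟨fun h => ⟨typeI_K_bot hG hM F hKU h, U_ne_bot_of_K_bot hG hM F hKU (typeI_K_bot hG hM F hKU h)⟩,
    fun h => typeI_of hG hM F hKU h.1 h.2⟩

end

end CfsgLib.OddOrder.BG16
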