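import Cfsg.Agent.OddOrder.BG16.TheoremC
import Cfsg.Agent.OddOrder.BG16.Exponent
import Cfsg.Agent.OddOrder.PF8.Equivariance

/-!
# BG 16: type `P` data of a maximal subgroup with `K ≠ 1`, and types II-V
-/

set_option autoImplicit false
set_option linter.style.haveILetI false
set_option linter.unusedSectionVars false

namespace CfsgLib.OddOrder.BG16

open Cfsg Subgroup CfsgLib
open CfsgLib.ConjFunctor (IsSylowIn)

variable {G : Type*} [Group G] [Finite G] {M K U : Subgroup G} {p : ℕ}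

/-- `p ∉ σ(M)` with cyclic Sylow subgroups and an element of order `p` fixing a point lies in `κ(M)`. -/
theorem mem_kappa_of_fix [Fact p.Prime] (hs : p ∉ Cfsg.sigma M) {T : Subgroup G}
    (hT : IsSylowIn p T M) (hTc : IsCyclic T) {x : G} (hx : orderOf x = p)
    (hfix : x ∈ Cfsg.sigmaHat M) : p ∈ Cfsg.kappa M := by
  have hp : p.Prime := Fact.out
  have hxM : x ∈ M := hfix.1
  have hdM : p ∣ Nat.card M := by
    rw [← hx, ← Nat.card_zpowers]; exact card_dvd_of_le (zpowers_le.2 hxM)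
  refine ⟨hp, hdM, hs, fun P => ⟨?_, ?_⟩⟩
  · obtain ⟨a, -, ha⟩ := (isSylowIn_map_subtype P).exists_cj_eq hT
    haveI : IsCyclic ↥((P : Subgroup M).map M.subtype) := ha ▸ isCyclic_map_conj hTc a
    exact ((P : Subgroup M).equivMapOfInjective _ M.subtype_injective).isCyclic.2 inferInstance
  have hxp : IsPGroup p (zpowers (⟨x, hxM⟩ : M)) := IsPGroup.iff_card.2 ⟨1, by
    rw [Nat.card_zpowers, pow_one, ← Subgroup.orderOf_coe, hx]⟩
  obtain ⟨S, hS⟩ := hxp.exists_le_sylow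
  obtain ⟨g, hg⟩ := MulAction.exists_smul_eq M S P
  have h1 : x ≠ 1 := fun h => hp.ne_one (by rw [← hx, h, orderOf_one])
  obtain ⟨-, y, hy, hy1, hc⟩ := sigmaHat_conj g.2 hfix
  refine ⟨g * ⟨x, hxM⟩ * g⁻¹, ?_, ?_, y, hy, hy1, by simpa using hc⟩
  · rw [← hg]; exact ⟨_, hS (mem_zpowers _), rfl⟩
  · exact fun h => h1 (congrArg Subtype.val (conj_eq_one_iff.1 h))

/-- If `O_p(H)` is nonabelian then `p` divides `|H|`. -/
theorem dvd_card_of_pCore_nonabelian {H : Type*} [Group H] [Finite H] (hp : p.Prime)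
    (h : ¬ IsMulCommutative (Cfsg.pCore p H)) : p ∣ Nat.card H := by
  haveI := Fact.mk hp
  obtain ⟨n, hn⟩ := IsPGroup.iff_card.1 (PLocal.isPGroup_pCore p H)
  rcases n with _ | n
  · haveI : Subsingleton (Cfsg.pCore p H) :=
      (Nat.card_eq_one_iff_unique.1 (by simpa using hn)).1
    exact absurd ⟨⟨fun a b => Subsingleton.elim _ _⟩⟩ h
  · exact (hn ▸ dvd_pow_self p n.succ_ne_zero).trans (card_subgroup_dvd_card _)

section
variable (hG : Cfsg.IsMinSimpleOddOrder G) (hM : IsCoatom M)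
include hG hM

theorem fittingHallOf_le_core' : Cfsg.fittingHallOf M ≤ Cfsg.sigmaCore M :=
  fittingHallOf_le_sigmaCore hG hM

theorem dvd_sigmaCore_of_sigma [Fact p.Prime] (hp : p ∈ Cfsg.sigma M) :
    p ∣ Nat.card (Cfsg.sigmaCore M) := by
  have h := hp.2.1
  rw [← card_mul_relIndex (sigmaCore_le M)] at h
  exact ((Fact.out : p.Prime).dvd_mul.1 h).resolve_right
    ((sigmaCore_hall hG hM).2.2 p Fact.out hp)

/-- A group of type `P` has `κ(M) ≠ ∅`. -/
theorem kappa_nonempty_of_typeP {W₁ U₁ W₂ : Subgroup G} (hP : Cfsg.IsTypePWith M W₁ U₁ W₂) :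
    (Cfsg.kappa M).Nonempty := by
  obtain ⟨⟨w, hw⟩, hw1⟩ := ne_bot_iff_exists_ne_one.1 hP.W₁_ne
  obtain ⟨p, x, hp, hx, hxp⟩ := exists_zpow_prime_order (x := w) fun h => hw1 (Subtype.ext h)
  haveI := Fact.mk hp
  have hxW : x ∈ W₁ := zpowers_le.2 hw hx
  have hx1 : x ≠ 1 := fun h => hp.ne_one (by rw [← hxp, h, orderOf_one])
  have hW₁M : W₁ ≤ M := hP.W₁_compl.2.1
  have hpW : p ∣ Nat.card W₁ := by
    rw [← hxp, ← Nat.card_zpowers]; exact card_dvd_of_le (zpowers_le.2 hxW)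
  have hrel : W₁.relIndex M = Nat.card ↥⁅M, M⁆ := by
    refine Nat.eq_of_mul_eq_mul_left (Nat.card_pos (α := W₁)) ?_
    rw [card_mul_relIndex hW₁M, ← compl_card hP.W₁_compl, mul_comm]
  have hs : p ∉ Cfsg.sigma M := fun h =>
    hp.not_dvd_one (hP.W₁_hall ▸ Nat.dvd_gcd hpW (hrel ▸ (dvd_sigmaCore_of_sigma hG hM h).trans
      (card_dvd_of_le (sigmaCore_le_commutator hG hM))))
  obtain ⟨T, hT⟩ := exists_isSylowIn p W₁
  have hTM : IsSylowIn p T M := by
    refine ⟨hT.le.trans hW₁M, hT.isPGroup, fun hd => ?_⟩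
    rw [← relIndex_mul_relIndex T W₁ M hT.le hW₁M] at hd
    exact (hp.dvd_mul.1 hd).elim hT.not_dvd
      fun h => hp.not_dvd_one (hP.W₁_hall ▸ Nat.dvd_gcd hpW h)
  haveI := hP.W₁_cyclic
  obtain ⟨⟨y, hy⟩, hy1⟩ := ne_bot_iff_exists_ne_one.1 hP.selfNormalizing.2.1
  exact ⟨p, mem_kappa_of_fix hs hTM (Subgroup.isCyclic_of_le hT.le) hxp
    ⟨hW₁M hxW, y, fittingHallOf_le_sigmaCore hG hM (hP.W₂_le hy).1,
      fun h => hy1 (Subtype.ext h), hP.selfNormalizing.2.2.2.1 x hxW y hy⟩⟩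

omit hG hM in
theorem K_ne_bot_of_nonempty (hKU : Cfsg.IsSigmaDecomposition M K U)
    (h : (Cfsg.kappa M).Nonempty) : K ≠ ⊥ := (K_ne_bot_iff hKU.hall).2 h

variable (F : BG1215Facts G)
include F

theorem fittingHall_eq_of_U (hKU : Cfsg.IsSigmaDecomposition M K U) (hU : U ≠ ⊥) :
    Cfsg.fittingHallOf M = Cfsg.sigmaCore M :=
  by_contra fun h => hU (F.coreNe M hM K U hKU h).1

theorem derived_eq_of_U_bot (hKU : Cfsg.IsSigmaDecomposition M K U) (hK : K ≠ ⊥) (hU : U = ⊥) :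
    ⁅M, M⁆ = Cfsg.sigmaCore M := by
  rw [derived_eq hG hM F hKU hK, hU, bot_sup_eq]

theorem isComplIn_derived (hKU : Cfsg.IsSigmaDecomposition M K U) (hK : K ≠ ⊥) :
    Cfsg.IsComplIn ⁅M, M⁆ K M := by
  refine isComplIn_of_card (commutator_le_self M) (decomp_K_le hKU) ?_ ?_
  · refine Coprime.inf_eq_bot_of_coprime ?_
    rw [card_derived hG hM F hKU hK]
    exact (coprime_K_derived hG hM hKU).symm
  · rw [card_derived hG hM F hKU hK, ← card_decomp hKU]; ring

/-- Type `P` data from a nilpotent `K`-invariant complement of `M_F` in `M'`. -/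
theorem typePWith_of (hKU : Cfsg.IsSigmaDecomposition M K U) (hK : K ≠ ⊥) {V : Subgroup G}
    (hVn : Group.IsNilpotent V) (hKV : K ≤ normalizer (V : Set G))
    (hV : Cfsg.IsComplIn (Cfsg.fittingHallOf M) V ⁅M, M⁆) :
    Cfsg.IsTypePWith M K V (Cfsg.sigmaCore M ⊓ centralizer (K : Set G)) := by
  set W := Cfsg.sigmaCore M ⊓ centralizer (K : Set G) with hW
  obtain ⟨hM2, hFeq, hFle⟩ := F.fittingEq M hM
  have hκ := (K_ne_bot_iff hKU.hall).1 hK
  obtain ⟨Ms, ⟨hMs, hKs, hKsH⟩, -⟩ := F.starExists M hM K U hKU hK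
  have hcompl := isComplIn_derived hG hM F hKU hK
  have hWM : W ≤ ⁅M, M⁆ := inf_le_left.trans (sigmaCore_le_commutator hG hM)
  have hKW : ∀ a ∈ K, ∀ b ∈ W, a * b = b * a := fun a ha b hb => mem_centralizer_iff.1 hb.2 a ha
  refine ⟨hK, hKU.cyclic, coprime_relIndex_of_isPiHallOf hKU.hall, hcompl, hVn, hKV, hV,
    fittingHall_not_cyclic hG hM F hKU hK, ?_, ?_, hFle hκ,
    le_inf (kstar_le_fittingHall hG hM F hKU) (kstar_le_derived_two hG hM F hKU hK), ?_,
    hK, kstar_ne_bot hG hM F hKU.hall, le_bot_iff.1 (le_trans (inf_le_inf_left K inf_le_left)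
      (kappa_inf_sigmaCore hKU.hall).le), hKW,
    (F.starInter M hM K U hKU hK Ms hMs hKs hKsH).2, ?_⟩
  · rw [sup_comm, ← hFeq]; exact hM2
  · rw [sup_comm, ← hFeq]
  · intro x hx hx1
    have h := kappa_centralizer hG hM F hKU.cyclic hKU.hall hx hx1
    refine le_antisymm ?_ (le_inf hWM fun w hw =>
      mem_centralizer_singleton_iff.2 (hKW x hx w hw).symm)
    rintro c ⟨hc, hcx⟩
    have hc' : c ∈ K ⊔ W := h ▸ ⟨commutator_le_self M hc, hcx⟩
    rw [sup_comm] at hc'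
    have hn : K ≤ normalizer (W : Set G) :=
      le_trans (le_centralizer_iff.1 inf_le_right) (centralizer_le_normalizer _)
    obtain ⟨w, hw, k, hk, rfl⟩ := Coprime.exists_mul_of_mem_sup hn hc'
    have hk' : k ∈ ⁅M, M⁆ ⊓ K := ⟨by
      simpa using mul_mem ((⁅M, M⁆ : Subgroup G).inv_mem (hWM hw)) hc, hk⟩
    rw [hcompl.2.2.1, mem_bot] at hk'
    rw [hk', mul_one]; exact hw
  · intro X hX hXne
    obtain ⟨hTI, hN⟩ := F.zHatTI M hM K U hKU hK
    refine le_antisymm (fun g hg => ?_) fun z hz => ?_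
    · obtain ⟨x, hx⟩ := hXne
      rw [← hN]
      by_contra hgn
      have h1 := hTI g hgn x (hX hx) (hX ((mem_set_normalizer_iff.1 hg x).1 hx))
      exact (hX hx).2 (Or.inl (h1 ▸ K.one_mem))
    · haveI := (F.starInter M hM K U hKU hK Ms hMs hKs hKsH).2
      refine mem_set_normalizer_iff.2 fun x => ?_
      have key : ∀ y ∈ X, z * y * z⁻¹ = y := fun y hy => by
        haveI : IsMulCommutative ↥(K ⊔ W) := inferInstance
        exact mul_inv_eq_iff_eq_mul.2 (setLike_mul_comm (s := K ⊔ W) hz (hX hy).1)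
      refine ⟨fun hx => (key x hx).symm ▸ hx, fun hx => ?_⟩
      have h2 := key _ hx
      have h3 : z * x * z⁻¹ = x :=
        mul_left_cancel (a := z) (mul_right_cancel (b := z⁻¹) h2)
      rwa [h3] at hx

theorem typePWith_of_eq (hKU : Cfsg.IsSigmaDecomposition M K U) (hK : K ≠ ⊥)
    (hF : Cfsg.fittingHallOf M = Cfsg.sigmaCore M) :
    Cfsg.IsTypePWith M K U (Cfsg.sigmaCore M ⊓ centralizer (K : Set G)) := by
  refine typePWith_of hG hM F hKU hK ?_ hKU.normal ?_
  · haveI := U_abelian hG hM F hKU hK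
    letI : CommGroup U := { (inferInstance : Group U) with mul_comm := fun a b => mul_comm' a b }
    infer_instance
  · rw [hF, derived_eq hG hM F hKU hK]
    refine isComplIn_of_card le_sup_right le_sup_left ?_ ?_
    · refine le_bot_iff.1 ?_
      rw [← hKU.compl.2.2.1]
      exact le_inf inf_le_right (inf_le_left.trans le_sup_right)
    · rw [← derived_eq hG hM F hKU hK, card_derived hG hM F hKU hK, mul_comm]

/-- A nilpotent `K`-invariant complement of `M_F` in `M'`. -/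
theorem exists_nilpotent_compl (hKU : Cfsg.IsSigmaDecomposition M K U) (hK : K ≠ ⊥) :
    ∃ V : Subgroup G, Group.IsNilpotent V ∧ K ≤ normalizer (V : Set G) ∧
      Cfsg.IsComplIn (Cfsg.fittingHallOf M) V ⁅M, M⁆ := by
  have hDM : ⁅M, M⁆ ≤ M := commutator_le_self M
  have hFD : Cfsg.fittingHallOf M ≤ ⁅M, M⁆ :=
    (fittingHallOf_le_sigmaCore hG hM).trans (sigmaCore_le_commutator hG hM)
  have hsolv : Group.IsSolvable ↥⁅M, M⁆ :=
    minSimple_solvable hG fun h => hM.1 (top_le_iff.1 (h ▸ hDM))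
  set π : Set ℕ := {q | ¬ q ∣ Nat.card (Cfsg.fittingHallOf M)} with hπ
  set ρ : Set ℕ := {q | q ∣ Nat.card (Cfsg.fittingHallOf M)} with hρ
  obtain ⟨V₀, hV₀⟩ := exists_isPiHallOf π hsolv
  have hF : Cfsg.IsPiHallOf ρ (Cfsg.fittingHallOf M) ⁅M, M⁆ := by
    refine ⟨hFD, fun r _ h => h, fun r hr hrρ hd => hr.not_dvd_one
      (coprime_relIndex_fittingHallOf M ▸ Nat.dvd_gcd hrρ (hd.trans ?_))⟩
    exact ⟨(⁅M, M⁆ : Subgroup G).relIndex M,
      (relIndex_mul_relIndex _ _ M hFD hDM).symm⟩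
  -- Frattini argument
  haveI := minSimple_coatom_solvable hG hM
  set L := (⁅M, M⁆ : Subgroup G).subgroupOf M with hL
  haveI : L.Normal := (normal_subgroupOf_iff_le_normalizer hDM).2
    (by
      rw [← map_subtype_commutator M]
      exact (le_normalizer_map M.subtype).trans' (by
        rw [normalizer_eq_top, ← MonoidHom.range_eq_map, range_subtype]))
  set V₁ := V₀.subgroupOf M with hV₁
  have hfr : L ⊔ normalizer (V₁ : Set M) = ⊤ := by
    refine Solvable.frattini_argument_hall (π := π) (Coprime.isSolvable_of_le (le_top (a := L))) ?_ ?_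
    · exact fun x hx => mem_subgroupOf.2 (hV₀.1 (mem_subgroupOf.1 hx))
    · have h1 := hV₀.2
      have hVL : V₁ ≤ L := fun x hx => mem_subgroupOf.2 (hV₀.1 (mem_subgroupOf.1 hx))
      refine (isPiHall_subgroupOf_iff hVL).2 ⟨hVL, ?_, ?_⟩
      · exact isPiSubgroup_subgroupOf h1.1
      · rw [hV₁, hL, relIndex_subgroupOf (hDM)]; exact h1.2
  -- a conjugate of `K` normalizes `V₀`
  set N := M ⊓ normalizer (V₀ : Set G) with hN
  have hNmap : (normalizer (V₁ : Set M)).map M.subtype ≤ N := by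
    refine le_inf (map_subtype_le _) ?_
    refine (le_normalizer_map M.subtype).trans (le_of_eq ?_)
    rw [hV₁, map_subgroupOf_eq_of_le (hV₀.1.trans hDM)]
  have hMeq : M ≤ ⁅M, M⁆ ⊔ N := by
    have h := congrArg (Subgroup.map M.subtype) hfr
    rw [Subgroup.map_sup, hL, map_subgroupOf_eq_of_le hDM, ← MonoidHom.range_eq_map,
      range_subtype] at h
    exact h.ge.trans (sup_le_sup_left hNmap _)
  have hidx : N.relIndex M ∣ Nat.card ↥⁅M, M⁆ := by
    have hn : N ≤ normalizer ((⁅M, M⁆ : Subgroup G) : Set G) := inf_le_left.trans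
      (by rw [← map_subtype_commutator M]; exact (le_normalizer_map M.subtype).trans' (by
        rw [normalizer_eq_top, ← MonoidHom.range_eq_map, range_subtype]))
    refine BG13.relIndex_dvd_card_of_eq_sup (H := M) (K := ⁅M, M⁆) (L := N) ?_
      (le_antisymm hMeq (sup_le hDM inf_le_left))
    rw [← map_subtype_commutator M]
    exact (le_normalizer_map M.subtype).trans' (by
      rw [normalizer_eq_top, ← MonoidHom.range_eq_map, range_subtype])
  have hNsolv : Group.IsSolvable N := Coprime.isSolvable_of_le (inf_le_left : N ≤ M)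
  obtain ⟨K₁, hK₁⟩ := exists_isPiHallOf (Cfsg.kappa M) hNsolv
  have hK₁M : Cfsg.IsPiHallOf (Cfsg.kappa M) K₁ M := by
    refine ⟨hK₁.1.trans inf_le_left, hK₁.2.1, fun r hr hrk hd => ?_⟩
    rw [← relIndex_mul_relIndex K₁ N M hK₁.1 inf_le_left] at hd
    refine (hr.dvd_mul.1 hd).elim (hK₁.2.2 r hr hrk) fun h => ?_
    have h2 := h.trans hidx
    rw [card_derived hG hM F hKU hK] at h2
    exact hr.not_dvd_one (coprime_K_derived hG hM hKU ▸
      Nat.dvd_gcd (by
        have h3 := hrk.2.1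
        rw [← card_mul_relIndex (decomp_K_le hKU)] at h3
        exact (hr.dvd_mul.1 h3).resolve_right (hKU.hall.2.2 r hr hrk)) h2)
  obtain ⟨m, hm, hle⟩ := exists_conj_le_isPiHallOf (minSimple_coatom_solvable hG hM) hK₁M.1
    hK₁M.2.1 hKU.hall
  have hKeq : K₁.map (MulAut.conj m).toMonoidHom = K := by
    refine le_antisymm hle (le_of_isPiHallOf_le ?_ hle hKU.hall.1 hKU.hall.2.1)
    have h := isPiHallOf_map_conj hK₁M m
    rwa [map_conj_eq_self_of_mem hm] at h
  set V := V₀.map (MulAut.conj m).toMonoidHom with hV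
  have hDn : ⁅M, M⁆.map (MulAut.conj m).toMonoidHom = ⁅M, M⁆ := by
    rw [map_commutator, map_conj_eq_self_of_mem hm]
  have hVhall : Cfsg.IsPiHallOf π V ⁅M, M⁆ := hDn ▸ isPiHallOf_map_conj hV₀ m
  have hcompl : Cfsg.IsComplIn (Cfsg.fittingHallOf M) V ⁅M, M⁆ :=
    isComplIn_symm (isComplIn_of_isPiHallOf (hDM.trans (le_normalizer_fittingHallOf M)) hF hVhall
      fun r _ => Iff.rfl)
  refine ⟨V, ?_, ?_, hcompl⟩
  · -- `V` embeds in the image of `M'` in `M / M_F`
    obtain ⟨-, -, -, -, hnil⟩ := F.fittingChain M hM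
    haveI := hnil
    set f := (QuotientGroup.mk' (Cfsg.fittingHall ↥M)).comp (inclusion (hcompl.2.1.trans hDM))
    have hf : ∀ v : V, f v ∈ (commutator ↥M).map (QuotientGroup.mk' (Cfsg.fittingHall ↥M)) := by
      intro v
      refine mem_map_of_mem _ ?_
      have h : (v : G) ∈ (commutator ↥M).map M.subtype := by
        rw [map_subtype_commutator]; exact hcompl.2.1 v.2
      obtain ⟨w, hw, he⟩ := h
      rwa [show inclusion (hcompl.2.1.trans hDM) v = w from Subtype.ext he.symm]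
    refine Subgroup.isNilpotent_of_ker_le_center (f.codRestrict _ hf) (fun v hv => ?_)
    suffices hv' : v = 1 by rw [hv']; exact one_mem _
    refine Subtype.ext ?_
    have h1 : inclusion (hcompl.2.1.trans hDM) v ∈ Cfsg.fittingHall ↥M :=
      (QuotientGroup.eq_one_iff _).1 (congrArg Subtype.val hv)
    have h2 : (v : G) ∈ Cfsg.fittingHallOf M ⊓ V := ⟨⟨_, h1, rfl⟩, v.2⟩
    rw [hcompl.2.2.1, mem_bot] at h2
    exact h2
  · rw [← hKeq, hV, ← map_conj_normalizer]
    exact map_mono (hK₁.1.trans inf_le_right)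

/-- For `U = 1` a nilpotent complement of `M_F` in `M'` has its normalizer in `M`. -/
theorem normalizer_compl_le (hKU : Cfsg.IsSigmaDecomposition M K U) (hK : K ≠ ⊥) (hU : U = ⊥)
    {V : Subgroup G} (hVn : Group.IsNilpotent V) (hV1 : V ≠ ⊥)
    (hV : Cfsg.IsComplIn (Cfsg.fittingHallOf M) V ⁅M, M⁆) : normalizer (V : Set G) ≤ M := by
  rw [derived_eq_of_U_bot hG hM F hKU hK hU] at hV
  obtain ⟨r, hr, hd⟩ := Nat.exists_prime_and_dvd (V.one_lt_card_iff_ne_bot.2 hV1).ne'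
  haveI := Fact.mk hr
  obtain ⟨T, hT⟩ := exists_isSylowIn r V
  have hrs : r ∈ Cfsg.sigma M :=
    isPiSubgroup_sigmaCore M r hr (hd.trans (card_dvd_of_le hV.2.1))
  have hrel : V.relIndex (Cfsg.sigmaCore M) = Nat.card (Cfsg.fittingHallOf M) := by
    refine Nat.eq_of_mul_eq_mul_left (Nat.card_pos (α := V)) ?_
    rw [card_mul_relIndex hV.2.1, ← compl_card hV, mul_comm]
  have hTM : IsSylowIn r T M := by
    refine ⟨hT.le.trans (hV.2.1.trans (sigmaCore_le M)), hT.isPGroup, fun h => ?_⟩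
    rw [← relIndex_mul_relIndex T V M hT.le (hV.2.1.trans (sigmaCore_le M)),
      ← relIndex_mul_relIndex V (Cfsg.sigmaCore M) M hV.2.1 (sigmaCore_le M)] at h
    refine (hr.dvd_mul.1 h).elim hT.not_dvd fun h' => (hr.dvd_mul.1 h').elim ?_
      ((sigmaCore_hall hG hM).2.2 r hr hrs)
    intro h2
    have hcop := card_coprime_fittingHallOf (hV.2.1.trans (sigmaCore_le M)) hV.2.2.1
    exact hr.not_dvd_one (hcop ▸ Nat.dvd_gcd (hrel ▸ h2) hd)
  have hTeq : Cfsg.piCoreOf ({r} : Set ℕ) V = T := by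
    refine (hT.eq_of_le (nilpotent_le_piCoreOf hVn hT.le (isPiSubgroup_of_isPGroup hT.isPGroup
      (Set.mem_singleton r))) (piCoreOf_le _ _) ?_)
    exact isPGroup_of_isPiSubgroup (isPiSubgroup_piCoreOf _ _)
  refine le_trans ?_ (sigma_normalizer_le hrs hTM)
  rw [← hTeq]
  exact normalizer_le_normalizer_piCoreOf _ _

theorem exists_typePWith (hKU : Cfsg.IsSigmaDecomposition M K U) (hK : K ≠ ⊥) :
    ∃ V : Subgroup G, Cfsg.IsTypePWith M K V (Cfsg.sigmaCore M ⊓ centralizer (K : Set G)) := by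
  obtain ⟨V, h1, h2, h3⟩ := exists_nilpotent_compl hG hM F hKU hK
  exact ⟨V, typePWith_of hG hM F hKU hK h1 h2 h3⟩

/-- For `U = 1`, a complement of `M_F` in `M'` is trivial only if `M_F = M_σ`. -/
theorem compl_ne_bot (hKU : Cfsg.IsSigmaDecomposition M K U) (hK : K ≠ ⊥) (hU : U = ⊥)
    {V : Subgroup G} (hV : Cfsg.IsComplIn (Cfsg.fittingHallOf M) V ⁅M, M⁆)
    (hne : Cfsg.fittingHallOf M ≠ Cfsg.sigmaCore M) : V ≠ ⊥ := fun h => hne (by
  rw [← derived_eq_of_U_bot hG hM F hKU hK hU, ← sup_eq_of_isComplIn hV, h, sup_bot_eq])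

theorem compl_eq_bot (hKU : Cfsg.IsSigmaDecomposition M K U) (hK : K ≠ ⊥) (hU : U = ⊥)
    {V : Subgroup G} (hV : Cfsg.IsComplIn (Cfsg.fittingHallOf M) V ⁅M, M⁆)
    (he : Cfsg.fittingHallOf M = Cfsg.sigmaCore M) : V = ⊥ := by
  have h := compl_card hV
  rw [derived_eq_of_U_bot hG hM F hKU hK hU, he] at h
  exact card_eq_one.1 ((Nat.mul_eq_left Nat.card_pos.ne').1 h)

omit F in
theorem le_normalizer_derived : M ≤ normalizer ((⁅M, M⁆ : Subgroup G) : Set G) := by
  rw [← map_subtype_commutator M]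
  exact (le_normalizer_map M.subtype).trans' (by
    rw [normalizer_eq_top, ← MonoidHom.range_eq_map, range_subtype])

/-- For `U ≠ 1` the Fitting Hall subgroup of `M'` is that of `M`. -/
theorem fittingHallOf_derived (hKU : Cfsg.IsSigmaDecomposition M K U) (hK : K ≠ ⊥) (hU : U ≠ ⊥) :
    Cfsg.fittingHallOf ⁅M, M⁆ = Cfsg.fittingHallOf M := by
  have hF := fittingHall_eq_of_U hG hM F hKU hU
  have hDM : ⁅M, M⁆ ≤ M := commutator_le_self M
  refine le_antisymm ?_ ?_
  · refine le_fittingHallOf ((fittingHallOf_le _).trans hDM) ?_ (isNilpotent_fittingHallOf _) ?_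
    · intro m hm
      refine mem_normalizer_iff_map_conj_eq.2 ((fittingHallOf_map (MulAut.conj m) _).symm.trans ?_)
      exact congrArg Cfsg.fittingHallOf
        (mem_normalizer_iff_map_conj_eq.1 (le_normalizer_derived hG hM hm))
    · rw [← relIndex_mul_relIndex _ _ M (fittingHallOf_le _) hDM]
      refine (coprime_relIndex_fittingHallOf _).mul_right ?_
      refine Nat.Coprime.coprime_dvd_left (card_dvd_of_le (fittingHallOf_le _)) ?_
      have hrel : (⁅M, M⁆ : Subgroup G).relIndex M = Nat.card K := by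
        refine Nat.eq_of_mul_eq_mul_left (Nat.card_pos (α := (⁅M, M⁆ : Subgroup G))) ?_
        rw [card_mul_relIndex hDM, compl_card (isComplIn_derived hG hM F hKU hK)]
      rw [hrel, card_derived hG hM F hKU hK]
      exact (coprime_K_derived hG hM hKU).symm
  · refine le_fittingHallOf ((fittingHallOf_le_sigmaCore hG hM).trans
      (sigmaCore_le_commutator hG hM)) (hDM.trans (le_normalizer_fittingHallOf M))
      (isNilpotent_fittingHallOf M) ?_
    refine (coprime_relIndex_fittingHallOf M).coprime_dvd_right ⟨(⁅M, M⁆ : Subgroup G).relIndex M,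
      (relIndex_mul_relIndex _ _ M ?_ hDM).symm⟩
    exact (fittingHallOf_le_sigmaCore hG hM).trans (sigmaCore_le_commutator hG hM)

/-- `M'` is of Frobenius type when `K ≠ 1 ≠ U`. -/
theorem typeF_derived (hKU : Cfsg.IsSigmaDecomposition M K U) (hK : K ≠ ⊥) (hU : U ≠ ⊥) :
    Cfsg.IsOfTypeF ↥⁅M, M⁆ := by
  have hF := fittingHall_eq_of_U hG hM F hKU hU
  set D := (⁅M, M⁆ : Subgroup G) with hD
  have hDM : D ≤ M := commutator_le_self M
  have hFof : (Cfsg.fittingHall ↥D).map D.subtype = Cfsg.sigmaCore M :=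
    (fittingHallOf_derived hG hM F hKU hK hU).trans hF
  have hUD : U ≤ D := le_sup_left.trans (derived_eq hG hM F hKU hK).ge
  have hUab := U_abelian hG hM F hKU hK
  have hcF : Nat.card (Cfsg.fittingHall ↥D) = Nat.card (Cfsg.sigmaCore M) := by
    rw [← hFof, card_map_of_injective D.subtype_injective]
  have hcU : Nat.card (U.subgroupOf D) = Nat.card U :=
    Nat.card_congr (subgroupOfEquivOfLe hUD).toEquiv
  have hcD : Nat.card D = Nat.card U * Nat.card (Cfsg.sigmaCore M) := card_derived hG hM F hKU hK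
  refine ⟨minSimple_solvable hG fun h => hM.1 (top_le_iff.1 (h ▸ hDM)),
    minSimple_odd_subgroup hG D, fun h => ?_, fun h => ?_, U.subgroupOf D, ?_, ?_,
    ⟨U.subgroupOf D, le_rfl, le_normalizer,
      isMulCommutative_of_equiv (subgroupOfEquivOfLe hUD).symm hUab, fun x _ _ => inf_le_left⟩, ?_⟩
  · exact minSimple_sigmaCore_ne_bot hG hM (by rw [← hFof, h, Subgroup.map_bot])
  · rw [h, card_top, hcD] at hcF
    exact hU (card_eq_one.1 ((Nat.mul_eq_right Nat.card_pos.ne').1 hcF))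
  · exact fun h => hU (le_bot_iff.1 (by
      rw [← map_subgroupOf_eq_of_le hUD, h, Subgroup.map_bot]))
  · refine isComplement'_of_card_mul_and_disjoint (by rw [hcF, hcU, hcD, mul_comm]) ?_
    rw [disjoint_iff, eq_bot_iff]
    intro x hx
    have h2 : (x : G) ∈ Cfsg.sigmaCore M ⊓ U := ⟨hFof ▸ ⟨x, hx.1, rfl⟩, hx.2⟩
    have h3 : (x : G) ∈ U ⊓ (K ⊔ Cfsg.sigmaCore M) := ⟨h2.2, mem_sup_right h2.1⟩
    rw [hKU.compl.2.2.1, mem_bot] at h3
    exact mem_bot.2 (Subtype.ext h3)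
  · obtain ⟨U₀, h1, h2, h3⟩ := exists_regular_exponent hG hM F hKU
    refine ⟨U₀.subgroupOf D, fun x hx => mem_subgroupOf.2 (h1 (mem_subgroupOf.1 hx)), ?_,
      fun u hu hu1 x hx hc => by_contra fun hx1 => hu1 (Subtype.ext ?_)⟩
    · rw [Monoid.exponent_eq_of_mulEquiv (subgroupOfEquivOfLe (h1.trans hUD)),
        Monoid.exponent_eq_of_mulEquiv (subgroupOfEquivOfLe hUD), h2]
    · exact h3 u hu ⟨decomp_U_le hKU (h1 hu), x, hFof ▸ ⟨x, hx, rfl⟩,
        fun h => hx1 (Subtype.ext h), congrArg Subtype.val hc⟩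

/-- Theorem: types II. -/
theorem typeII_iff (hKU : Cfsg.IsSigmaDecomposition M K U) :
    Cfsg.IsOfTypeII M ↔ (K ≠ ⊥ ∧ U ≠ ⊥) := by
  constructor
  · rintro ⟨W₁, V, W₂, hP, hV1, -, -, -, hN, -, -⟩
    have hK := K_ne_bot_of_nonempty hKU (kappa_nonempty_of_typeP hG hM hP)
    refine ⟨hK, fun hU => ?_⟩
    by_cases he : Cfsg.fittingHallOf M = Cfsg.sigmaCore M
    · exact hV1 (compl_eq_bot hG hM F hKU hK hU hP.U_compl he)
    · exact hN (normalizer_compl_le hG hM F hKU hK hU hP.U_nilpotent hV1 hP.U_compl)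
  · rintro ⟨hK, hU⟩
    have hF := fittingHall_eq_of_U hG hM F hKU hU
    obtain ⟨hp, hTI, -⟩ := F.primeKappa M hM K U hKU hK hU
    exact ⟨K, U, _, typePWith_of_eq hG hM F hKU hK hF, hU, hp, hTI,
      U_abelian hG hM F hKU hK, not_normalizer_U_le hG hM F hKU hK,
      typeF_derived hG hM F hKU hK hU, fittingHallOf_derived hG hM F hKU hK hU⟩

/-- Type `P` with `N_G(U) ≤ M` forces `U = 1` in the standard factorisation. -/
theorem U_bot_of_normalizer_le {W₁ V W₂ : Subgroup G} (hKU : Cfsg.IsSigmaDecomposition M K U)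
    (hP : Cfsg.IsTypePWith M W₁ V W₂) (hN : normalizer (V : Set G) ≤ M) : U = ⊥ := by
  have hK := K_ne_bot_of_nonempty hKU (kappa_nonempty_of_typeP hG hM hP)
  by_contra hU
  have hF := fittingHall_eq_of_U hG hM F hKU hU
  have hc : Nat.card V = Nat.card U := by
    have h := compl_card hP.U_compl
    rw [hF, card_derived hG hM F hKU hK, mul_comm] at h
    exact Nat.eq_of_mul_eq_mul_right Nat.card_pos h
  obtain ⟨m, hm, hle⟩ := exists_conj_le_isPiHallOf (minSimple_coatom_solvable hG hM)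
    (typeP_U_le hP) (fun r hr hd => (decomp_hall_U hG hM hKU).2.1 r hr (hc ▸ hd))
    (decomp_hall_U hG hM hKU)
  have he : V.map (MulAut.conj m).toMonoidHom = U :=
    eq_of_le_of_card_ge hle (by rw [card_map_conj, hc])
  refine not_normalizer_U_le hG hM F hKU hK ?_
  rw [← he, ← map_conj_normalizer]
  exact (map_mono hN).trans (map_conj_eq_self_of_mem hm).le

/-- Types III and IV. -/
theorem typeIII_IV_iff (hKU : Cfsg.IsSigmaDecomposition M K U) :
    (Cfsg.IsOfTypeIII M ∨ Cfsg.IsOfTypeIV M) ↔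
      (K ≠ ⊥ ∧ U = ⊥ ∧ Cfsg.fittingHallOf M ≠ Cfsg.sigmaCore M) := by
  constructor
  · intro h
    obtain ⟨W₁, V, W₂, hP, hV1, hN⟩ : ∃ W₁ V W₂, Cfsg.IsTypePWith M W₁ V W₂ ∧ V ≠ ⊥ ∧
        normalizer (V : Set G) ≤ M := by
      rcases h with ⟨W₁, V, W₂, hP, hV1, -, -, -, hN⟩ | ⟨W₁, V, W₂, hP, hV1, -, -, -, hN⟩ <;>
        exact ⟨W₁, V, W₂, hP, hV1, hN⟩
    have hK := K_ne_bot_of_nonempty hKU (kappa_nonempty_of_typeP hG hM hP)
    have hU := U_bot_of_normalizer_le hG hM F hKU hP hN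
    exact ⟨hK, hU, fun he => hV1 (compl_eq_bot hG hM F hKU hK hU hP.U_compl he)⟩
  · rintro ⟨hK, hU, hne⟩
    obtain ⟨V, hP⟩ := exists_typePWith hG hM F hKU hK
    obtain ⟨-, hTI, hp⟩ := F.coreNe M hM K U hKU hne
    have hV1 := compl_ne_bot hG hM F hKU hK hU hP.U_compl hne
    have hN := normalizer_compl_le hG hM F hKU hK hU hP.U_nilpotent hV1 hP.U_compl
    by_cases hab : IsMulCommutative V
    · exact Or.inl ⟨K, V, _, hP, hV1, hp, hTI, hab, hN⟩
    · exact Or.inr ⟨K, V, _, hP, hV1, hp, hTI, hab, hN⟩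

omit hG hM F in
theorem sigma_set_normalizer {M' H : Subgroup G} {g : G} (hn : M' ≤ normalizer (H : Set G))
    (hg : g ∉ normalizer (H : Set G)) : g ∉ M' := fun h => hg (hn h)

/-- If `M_F` is not TI, then `F(M)` meets a conjugate by an element outside `M` nontrivially. -/
theorem exists_fitting_inter (h : ¬ Cfsg.IsTISubset (Cfsg.fittingHallOf M : Set G)) :
    ∃ g ∉ M, Cfsg.fittingOf M ⊓ (Cfsg.fittingOf M).map (MulAut.conj g).toMonoidHom ≠ ⊥ := by
  simp only [Cfsg.IsTISubset, not_forall] at h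
  obtain ⟨g, hg, x, hx, hgx, hx1⟩ := h
  refine ⟨g, fun hgM => hg (le_normalizer_fittingHallOf M hgM), ?_⟩
  refine ne_bot_iff_exists_ne_one.2 ⟨⟨g * x * g⁻¹, fittingHallOf_le_fittingOf M hgx,
    ⟨x, fittingHallOf_le_fittingOf M hx, rfl⟩⟩, fun he => hx1 ?_⟩
  exact conj_eq_one_iff.1 (congrArg Subtype.val he)

/-- `|K|` divides the exponent of `M / M_F`. -/
theorem card_K_dvd_exponent (hKU : Cfsg.IsSigmaDecomposition M K U) :
    Nat.card K ∣ Monoid.exponent (↥M ⧸ Cfsg.fittingHall ↥M) := by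
  haveI := hKU.cyclic
  set f := (QuotientGroup.mk' (Cfsg.fittingHall ↥M)).comp (inclusion (decomp_K_le hKU)) with hf
  have hinj : Function.Injective f := (injective_iff_map_eq_one _).2 fun k hk => by
    have h1 : inclusion (decomp_K_le hKU) k ∈ Cfsg.fittingHall ↥M :=
      (QuotientGroup.eq_one_iff _).1 hk
    have h2 : (k : G) ∈ K ⊓ Cfsg.sigmaCore M :=
      ⟨k.2, fittingHallOf_le_sigmaCore hG hM ⟨_, h1, rfl⟩⟩
    rw [kappa_inf_sigmaCore hKU.hall, mem_bot] at h2
    exact Subtype.ext h2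
  rw [← IsCyclic.exponent_eq_card (α := K)]
  exact Monoid.exponent_dvd_of_monoidHom f hinj

/-- Type V. -/
theorem typeV_iff (hKU : Cfsg.IsSigmaDecomposition M K U) :
    Cfsg.IsOfTypeV M ↔ (K ≠ ⊥ ∧ U = ⊥ ∧ Cfsg.fittingHallOf M = Cfsg.sigmaCore M) := by
  constructor
  · rintro ⟨W₁, V, W₂, hP, hV, -⟩
    have hK := K_ne_bot_of_nonempty hKU (kappa_nonempty_of_typeP hG hM hP)
    have hD : ⁅M, M⁆ = Cfsg.fittingHallOf M := by
      rw [← sup_eq_of_isComplIn hP.U_compl, hV, sup_bot_eq]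
    have he : Cfsg.fittingHallOf M = Cfsg.sigmaCore M :=
      le_antisymm (fittingHallOf_le_sigmaCore hG hM) (hD ▸ sigmaCore_le_commutator hG hM)
    refine ⟨hK, le_bot_iff.1 ?_, he⟩
    rw [← hKU.compl.2.2.1]
    refine le_inf le_rfl (le_trans ?_ le_sup_right)
    rw [← he, ← hD, derived_eq hG hM F hKU hK]
    exact le_sup_left
  · rintro ⟨hK, hU, he⟩
    obtain ⟨V, hP⟩ := exists_typePWith hG hM F hKU hK
    refine ⟨K, V, _, hP, compl_eq_bot hG hM F hKU hK hU hP.U_compl he, ?_⟩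
    by_cases hTI : Cfsg.IsTISubset (Cfsg.fittingHallOf M : Set G)
    · exact Or.inl hTI
    obtain ⟨g, hg, hX⟩ := exists_fitting_inter hG hM F hTI
    rcases (F.fittingNotTI M hM K U hKU g hg hX).2.2 with
      ⟨h, -⟩ | ⟨p, hp, -, -, -, hnc, hcyc, hexp⟩ | ⟨p, hp, -, -, -, hcyc, hc3, -, -, -, hd⟩
    · exact absurd h hK
    · refine Or.inr (Or.inl ⟨p, hp, ?_, ?_, hcyc⟩)
      · exact dvd_card_of_pCore_nonabelian hp hnc
      · exact (card_K_dvd_exponent hG hM F hKU).trans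
          (hexp p hp (dvd_card_of_pCore_nonabelian hp hnc))
    · refine Or.inr (Or.inr ⟨p, hp, ?_, hc3, ?_, hcyc⟩)
      · exact (hc3 ▸ dvd_pow_self p three_ne_zero).trans (card_subgroup_dvd_card _)
      · convert hd using 1
        refine Nat.eq_of_mul_eq_mul_left (Nat.card_pos (α := Cfsg.fittingHallOf M)) ?_
        rw [card_mul_relIndex (fittingHallOf_le M), ← card_decomp hKU, hU, card_bot, he]; ring

end

end CfsgLib.OddOrder.BG16
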